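import Cfsg.Agent.H633.SimpleGood
import Cfsg.Agent.H568.RowAlt
import Cfsg.Agent.H165.RV.Defs
import Cfsg.Agent.S0205
import Cfsg.Agent.H551.OddTwoD_mg
import Cfsg.Agent.H808.RV.FTw_m3
import Cfsg.Agent.H519.LieRank
import Cfsg.Agent.H388.EvenFixSylow
import Cfsg.Agent.FixBN.ReeSplit
import Cfsg.Agent.Tits.Labels
import Cfsg.Agent.S2361
import Cfsg.Agent.S2359
import Cfsg.Agent.S2358
import Cfsg.Agent.S1158
import Cfsg.Agent.S0336
import Cfsg.Agent.H408.Hall.SpTwo
import Cfsg.Agent.LieRecognition.ReeSylowThree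
import Cfsg.Agent.LieRecognition.ReeFinal
import Cfsg.Agent.H561.D4.FinalA_m3
import Cfsg.Agent.H408.Pron.Main
import Cfsg.Agent.H408.Hall.SpRow
import Cfsg.Agent.H165.RV.HexRows
import Cfsg.Agent.S4350
import Cfsg.Agent.S0000
import Cfsg.Agent.H967.FaTw
import Cfsg.Agent.H618.AO.Lay
import Cfsg.Agent.S0242
import Cfsg.Agent.Lib.ListFast
import Cfsg.Agent.FastGrp
import Cfsg.Agent.Prune
set_option linter.all false
prune_inst 0x7ffcfefbaff83ddeffff7e7ffefddffc39d09fffe6dff94b7fe8e1ef3b9f23042be5fbaf8de080ff0ec2629410b87853f9fffeffeb6bfc7ffffd5ff45ffbee1ff7ffbd0c51d6b8340fbc6fff93f17f8a7f3fffffffffffffffffffffffffffbeffffffffffff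
open scoped Cfsg.Agent.FastGrp

-- part: H728/RV/ROne
section
/-!
# TEAM RV: the rows without odd automorphisms centralising a Sylow `2`-subgroup (helper728)

* `nRow_one` : `NRow` for the alternating groups, the sporadic groups, the Tits group and the groups of Lie type in
  characteristic `2`;

`BRow` for these groups: `ROneB` (from S2527).
-/

set_option autoImplicit false

namespace Cfsg.Agent.H728.RV.R1

open Subgroup Cfsg Cfsg.Agent.H165.RV Cfsg.Agent.H633.Struct Cfsg.Agent.H633.SimpleGood Cfsg.Agent.H633.CentTwo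
open Cfsg.Agent

universe u

variable {S : Type u} [Group S]

theorem noOddAut_of_good (h : Good 2 S) : NoOddAut S := by
  intro P φ hφ hfix
  refine h P φ ?_ hfix
  intro h2
  obtain ⟨k, hk⟩ := hφ
  omega

/-- the four families -/
def FourFam (S : Type u) [Group S] : Prop :=
  IsAlternating S ∨ IsSporadicGroup S ∨ Lie.IsoTits S ∨ IsLieTypeChar 2 S

theorem good_alt [Finite S] [IsSimpleGroup S] (h : IsAlternating S) : Good 2 S := by
  have h2 : Fact (Nat.Prime 2) := ⟨Nat.prime_two⟩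
  obtain ⟨n, hn, ⟨e⟩⟩ := h
  rcases eq_or_ne n 5 with rfl | h5
  · exact fun R φ h1 h2 => S4613.result 2 (Omega.KFacts.charTwo_alt_five e) φ h1 R h2
  · have hct : CT S := by
      have hfin := Finite.of_equiv S e.toEquiv
      exact CT.congr e (CT.of_selfN fun T => H94.Syl2Sym.alt_selfNorm (by rw [Fintype.card_fin]; omega) T)
    refine good_of_ct hct ?_
    rcases eq_or_ne n 6 with rfl | h6
    · exact BpSpor.Inn.OddInn.congr e fun p hp hp2 => H568.autInner_alt6 hp hp2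
    · exact BpSpor.Inn.OddInn.congr e (H505.OddInn.oddInn_alt hn h6)

theorem good_one [Finite S] [IsSimpleGroup S] (h : FourFam S) : Good 2 S := by
  have h2 : Fact (Nat.Prime 2) := ⟨Nat.prime_two⟩
  rcases h with h | h | h | h
  · exact good_alt h
  · exact good_of_ct (spor h) (H505.OddInn.oddInn_sporadic h)
  · exact good_of_ct (tits h) (H505.OddInn.oddInn_tits h)
  · exact fun R φ h1 h2 => S4613.result 2 h φ h1 R h2

/-- no automorphism of odd order centralises a Sylow `2`-subgroup -/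
theorem noOddAut [Finite S] [IsSimpleGroup S] (h : FourFam S) : NoOddAut S := noOddAut_of_good (good_one h)

/-- a Hall `π`-subgroup, `2 ∈ π`, is not trivial -/
theorem ne_bot {π : Set ℕ} (h2 : 2 ∈ π) [Finite S] (hS : 2 ∣ Nat.card S) {H : Subgroup S} (hH : IsPiHall π H) :
    H ≠ ⊥ := by
  rintro rfl
  refine hH.2 2 Nat.prime_two h2 ?_
  rwa [index_bot]

theorem two_dvd' [Finite S] [IsSimpleGroup S] (hna : ¬ IsMulCommutative S) : 2 ∣ Nat.card S := by
  by_contra h
  have h1 : Odd (Nat.card S) := by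
    rw [← Nat.not_even_iff_odd, even_iff_two_dvd]
    exact h
  have h2 : Group.IsSolvable S := S0205.result h1
  exact hna ⟨⟨IsSimpleGroup.comm_iff_isSolvable.2 h2⟩⟩

/-- **`NRow`.** -/
theorem nRow_one {π : Set ℕ} (h2 : 2 ∈ π) [Finite S] [IsSimpleGroup S] (hna : ¬ IsMulCommutative S) (h : FourFam S) :
    NRow π S :=
  NRow.of_noOddAut (noOddAut h) fun _ hH => ne_bot h2 (two_dvd' hna) hH

end Cfsg.Agent.H728.RV.R1
end

-- part: H565/RV/EvenIdx
section
/-!
# TEAM RV, row `NRow` in the own odd characteristic: Coxeter types whose proper parabolic subgroups have even index (helper565)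

The proofs are those of `H551.OddTwoNeg`, `H551.OddTwoD` (helper551), with the index instead of the number of double cosets.
-/

set_option autoImplicit false

namespace Cfsg.Agent.H565.RV

open CoxeterSystem Cfsg.Agent.ChevalleyStructure.CoxeterGeom Cfsg.Agent.Tits.Roots Cfsg.Agent.Tits.Core
  Cfsg.Agent.Tits.RootComb Cfsg.Agent.H551.OddTwo

/-- the proper parabolic subgroups have even index -/
def EvenIdx {I : Type*} (M : CoxeterMatrix I) : Prop :=
  ∀ J : Set I, J ≠ Set.univ → Even (WJ M.toCoxeterSystem J).index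

section

variable {I : Type*} {M : CoxeterMatrix I}

/-- a central involution in no proper parabolic subgroup -/
theorem evenIdx_of_central [Finite M.Group] (z : M.Group) (hz : z * z = 1) (hc : ∀ w : M.Group, z * w = w * z)
    (hJ : ∀ J : Set I, J ≠ Set.univ → z ∉ WJ M.toCoxeterSystem J) : EvenIdx M := by
  intro J hJ1
  have hzJ := hJ J hJ1
  -- `z` acts without fixed points
  have h1 : (Nat.card (M.Group ⧸ WJ M.toCoxeterSystem J)) % 2 = 0 := by
    have : Finite (M.Group ⧸ WJ M.toCoxeterSystem J) := inferInstance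
    have hp : IsPGroup 2 (Subgroup.zpowers z) := by
      rintro ⟨x, hx⟩
      obtain ⟨k, rfl⟩ := Subgroup.mem_zpowers_iff.1 hx
      refine ⟨1, Subtype.ext ?_⟩
      change (z ^ k) ^ 2 ^ 1 = 1
      rw [pow_one, ← zpow_natCast, ← zpow_mul, mul_comm, zpow_mul, zpow_natCast, sq, hz, one_zpow]
    have : Fact (Nat.Prime 2) := ⟨Nat.prime_two⟩
    have h2 := hp.card_modEq_card_fixedPoints (M.Group ⧸ WJ M.toCoxeterSystem J)
    have h3 : Nat.card (MulAction.fixedPoints (Subgroup.zpowers z) (M.Group ⧸ WJ M.toCoxeterSystem J)) = 0 := by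
      rw [Nat.card_eq_zero]
      left
      refine ⟨?_⟩
      rintro ⟨ω, hω⟩
      obtain ⟨w, rfl⟩ := QuotientGroup.mk_surjective ω
      have h3 : (QuotientGroup.mk (z * w) : M.Group ⧸ WJ M.toCoxeterSystem J) = QuotientGroup.mk w :=
        hω ⟨z, Subgroup.mem_zpowers z⟩
      rw [QuotientGroup.eq, hc w, mul_inv_rev, inv_mul_cancel_right] at h3
      exact hzJ (by rw [← inv_inv z]; exact inv_mem h3)
    rw [h3] at h2
    exact h2
  exact Nat.even_iff.2 h1

end

section neg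

variable {I : Type*} [Fintype I] [DecidableEq I] {M : CoxeterMatrix I} {A : I → I → ℤ}

theorem evenIdx_of_neg [Finite M.Group] (h : IsCartan M A) (z : M.Group)
    (hz : ∀ x, rep M.toCoxeterSystem h z x = -x) : EvenIdx M := by
  have hinj := rep_injective M.toCoxeterSystem h
  refine evenIdx_of_central z ?_ ?_ ?_
  · apply hinj
    rw [map_one]
    refine LinearMap.ext fun x => ?_
    rw [rep_mul_apply, hz, hz, neg_neg]
    rfl
  · intro w
    apply hinj
    refine LinearMap.ext fun x => ?_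
    rw [rep_mul_apply, rep_mul_apply, hz, hz, map_neg]
  · intro J hJ hzJ
    obtain ⟨k, hk⟩ : ∃ k, k ∉ J := by
      by_contra hcon
      push Not at hcon
      exact hJ (Set.eq_univ_of_forall hcon)
    have h1 := rep_apply_of_mem M.toCoxeterSystem h hzJ (sr k) hk
    rw [hz, Pi.neg_apply, sr_self] at h1
    omega

theorem evenIdx_of_neg_sr [Finite M.Group] (h : IsCartan M A) (z : M.Group)
    (hz : ∀ i, rep M.toCoxeterSystem h z (sr i) = -sr i) : EvenIdx M := by
  refine evenIdx_of_neg h z fun x => ?_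
  have hx : x = ∑ k, x k • sr k := by
    funext k
    rw [Finset.sum_apply, Finset.sum_eq_single k (fun b _ hb => by
      rw [Pi.smul_apply, sr_ne hb.symm, smul_zero]) (by simp only [_root_.Finset.mem_univ, _root_.not_true_eq_false, _root_.Pi.smul_apply, _root_.Int.zsmul_eq_mul, _root_.mul_eq_zero, _root_.IsEmpty.forall_iff]), Pi.smul_apply, sr_self, smul_eq_mul, mul_one]
  rw [hx, map_sum, ← Finset.sum_neg_distrib]
  refine Finset.sum_congr rfl fun k _ => ?_
  rw [map_smul, hz, smul_neg]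

end neg

section word

variable {l : ℕ} {M : CoxeterMatrix (Fin l)} {A : Fin l → Fin l → ℤ}

theorem evenIdx_of_negOK [Finite M.Group] (h : IsCartan M A) (ω : List (Fin l)) (hω : negOK l A ω = true) :
    EvenIdx M := by
  refine evenIdx_of_neg_sr h (M.toCoxeterSystem.wordProd ω) fun i => ?_
  have key : ∀ (ω : List (Fin l)) (v : List ℤ), rep M.toCoxeterSystem h (M.toCoxeterSystem.wordProd ω) (vec l v) =
      vec l (ω.foldr (stepF A) v) := by
    intro ω v
    induction ω with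
    | nil => rw [wordProd_nil, map_one]; rfl
    | cons j ω ih => rw [wordProd_cons, rep_mul_apply, ih, rep_simple, List.foldr_cons, vec_stepF]
  have h1 := List.all_eq_true.1 hω i (List.mem_finRange i)
  simp only [decide_eq_true_eq] at h1
  have h2 := key ω ((List.finRange l).map fun k => if k = i then 1 else 0)
  rw [h1, vec_single, vec_single, one_smul, neg_one_smul] at h2
  exact h2

end word

private noncomputable def _root_.Cfsg.Agent.LsF.facefc6_0 : {f // @Cfsg.Agent.H551.OddTwo.stepF = f} := ⟨_, by first | (delta Cfsg.Agent.H551.OddTwo.stepF; rewrite [Cfsg.Agent.LsF.imul_pat, Cfsg.Agent.LsF.isub_pat, Cfsg.Agent.LsF.map_eq, Cfsg.Agent.LsF.sum_eq, Cfsg.Agent.LsF.getD_eq, Cfsg.Agent.LsF.instIAdd_eq, Cfsg.Agent.LsF.dFinEq_eq, Cfsg.Agent.LsF.finRange_eq, Cfsg.Agent.LsF.ite_eq]; exact rfl) | exact rfl⟩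
private noncomputable def _root_.Cfsg.Agent.LsF.facefc6_1 : {f // @Cfsg.Agent.H551.OddTwo.negOK = f} := ⟨_, by first | (delta Cfsg.Agent.H551.OddTwo.negOK; rewrite [Cfsg.Agent.LsF.facefc6_0.2, Cfsg.Agent.LsF.ineg_pat, Cfsg.Agent.LsF.all_eq, Cfsg.Agent.LsF.map_eq, Cfsg.Agent.LsF.foldr_eq, Cfsg.Agent.LsF.instIDecEq_eq, Cfsg.Agent.LsF.dFinEq_eq, Cfsg.Agent.LsF.dListEq_eq, Cfsg.Agent.LsF.finRange_eq, Cfsg.Agent.LsF.ite_eq, Cfsg.Agent.LsF.decide_eq]; exact rfl) | exact rfl⟩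
private noncomputable def _root_.Cfsg.Agent.LsF.facefc6_2 : {f // @Cfsg.Agent.H551.OddTwo.cartanOf = f} := ⟨_, by first | (delta Cfsg.Agent.H551.OddTwo.cartanOf; rewrite [Cfsg.Agent.LsF.ineg_pat, Cfsg.Agent.LsF.instDecEq_eq, Cfsg.Agent.LsF.dFinEq_eq, Cfsg.Agent.LsF.ite_eq]; exact rfl) | exact rfl⟩
theorem evenIdx_E7 [Finite CoxeterMatrix.E₇.Group] : EvenIdx CoxeterMatrix.E₇ := by
  refine evenIdx_of_negOK (isCartan_cartanOf _ ?_)
    ((List.replicate 9 [0, 1, 2, 3, 4, 5, 6]).flatten) ?_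
  · intro i j
    fin_cases i <;> fin_cases j <;> decide
  · ((try (rewrite [Cfsg.Agent.LsF.facefc6_1.2, Cfsg.Agent.LsF.facefc6_2.2, Cfsg.Agent.LsF.flatten_eq, Cfsg.Agent.LsF.replicate_eq])); decide +kernel)

theorem evenIdx_E8 [Finite CoxeterMatrix.E₈.Group] : EvenIdx CoxeterMatrix.E₈ := by
  refine evenIdx_of_negOK (isCartan_cartanOf _ ?_)
    ((List.replicate 15 [0, 1, 2, 3, 4, 5, 6, 7]).flatten) ?_
  · intro i j
    fin_cases i <;> fin_cases j <;> decide
  · ((try (rewrite [Cfsg.Agent.LsF.facefc6_1.2, Cfsg.Agent.LsF.facefc6_2.2, Cfsg.Agent.LsF.flatten_eq, Cfsg.Agent.LsF.replicate_eq])); decide +kernel)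

theorem evenIdx_F4 [Finite CoxeterMatrix.F₄.Group] : EvenIdx CoxeterMatrix.F₄ := by
  refine evenIdx_of_negOK isCartan_F4 ((List.replicate 6 [0, 1, 2, 3]).flatten) ?_
  decide +kernel

theorem evenIdx_G2 [Finite CoxeterMatrix.G₂.Group] : EvenIdx CoxeterMatrix.G₂ := by
  refine evenIdx_of_negOK isCartan_G2 ((List.replicate 3 [0, 1]).flatten) ?_
  decide +kernel


section TypeB

open Cfsg.Agent.Nodes.TypeC

variable {n : ℕ}

theorem evenIdx_B [Finite (CoxeterMatrix.B n).Group] : EvenIdx (CoxeterMatrix.B n) := by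
  obtain ⟨ω, hω⟩ := gen_ngB (n := n)
  refine evenIdx_of_neg_sr (isCartan n) ((CoxeterMatrix.B n).toCoxeterSystem.wordProd ω) fun i => ?_
  have key : ∀ (ω : List (Fin n)) (x : Fin n → ℤ) (a b : Fin n × Bool), ee x = wt a + wt b →
      ee (rep (CoxeterMatrix.B n).toCoxeterSystem (isCartan n) ((CoxeterMatrix.B n).toCoxeterSystem.wordProd ω) x) =
        wt (ω.foldr sg a) + wt (ω.foldr sg b) := by
    intro ω x a b hx
    induction ω with
    | nil => rw [wordProd_nil, map_one]; exact hx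
    | cons j ω ih => rw [wordProd_cons, rep_mul_apply, rep_simple, ee_refl_of ih]; rfl
  apply ee_injective
  rw [key ω (sr i) (i, true) (nx i) (ee_sr i), hω, hω, wt_ng, wt_ng, ee_neg, ee_sr, bt]
  abel

end TypeB

section TypeD

open Cfsg.Agent.Nodes.TypeC (ng wt wt_ng ng_fst wt_apply)
open Cfsg.Agent.Nodes.TypeD

variable {n : ℕ}

theorem evenIdx_TypeD (hn : 1 ≤ n) [Finite (M n).Group] : EvenIdx (M n) := by
  intro J hJ
  by_contra hodd
  rw [Nat.not_even_iff_odd] at hodd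
  obtain ⟨k, hk⟩ : ∃ k, k ∉ J := by
    by_contra hcon
    push Not at hcon
    exact hJ (Set.eq_univ_of_forall hcon)
  obtain ⟨g, hg⟩ := Cfsg.Agent.H453.OddM.Cov.two_group hodd (isPGroup_EE (n := n))
  set r := rep (M n).toCoxeterSystem (isCartan n) with hr
  -- the functional
  let φ : (Fin (n + 2) → ℤ) →ₗ[ℤ] ℤ := (LinearMap.proj k : (Fin (n + 2) → ℤ) →ₗ[ℤ] ℤ).comp (r g)
  have hφ : ∀ w ∈ EE n, ∀ x, φ (r w x) = φ x := by
    intro w hw x
    change r g (r w x) k = r g x k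
    have h1 := rep_apply_of_mem (M n).toCoxeterSystem (isCartan n) (hg w hw) (r g x) hk
    rw [← hr, rep_mul_apply, rep_mul_apply, ← hr, rep_inv_apply] at h1
    exact h1
  have h2 : ∀ a : Fin (n + 2), ∃ y, ee y = 2 • wt (a, true) ∧ φ y = 0 := by
    intro a
    obtain ⟨w, hw, x, hx⟩ := exists_two hn a
    exact ⟨_, hx, by rw [map_sub, ← hr, hφ w hw, sub_self]⟩
  have h3 : ∀ a : Fin (n + 2) × Bool, ∃ y, ee y = 2 • wt a ∧ φ y = 0 := by
    rintro ⟨a, s⟩
    obtain ⟨y, hy, hy'⟩ := h2 a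
    cases s
    · refine ⟨-y, ?_, by rw [map_neg, hy', neg_zero]⟩
      have h4 : wt (a, false) = -wt (a, true) := wt_ng (a, true)
      rw [ee_neg, hy, h4, smul_neg]
    · exact ⟨y, hy, hy'⟩
  have h4 : ∀ i, φ (sr i) = 0 := by
    intro i
    obtain ⟨y, hy, hy'⟩ := h3 (i, true)
    obtain ⟨z, hz, hz'⟩ := h3 (nx i)
    have h5 : (2 : ℤ) • sr i = y + z := by
      apply ee_injective
      rw [ee_smul, ee_add, hy, hz, ee_sr, bt, smul_add]
      rfl
    have h6 : (2 : ℤ) • φ (sr i) = 0 := by rw [← map_smul, h5, map_add, hy', hz', add_zero]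
    exact (smul_eq_zero.1 h6).resolve_left (by norm_num)
  have h5 : φ = 0 := LinearMap.pi_ext' fun i => LinearMap.ext_ring (h4 i)
  have h6 : φ (r g⁻¹ (sr k)) = 1 := by
    change r g (r g⁻¹ (sr k)) k = 1
    rw [hr, rep_apply_inv, sr_self]
  rw [h5] at h6
  exact absurd h6 (by norm_num only [_root_.LinearMap.zero_apply, _root_.zero_ne_one, _root_.not_false_eq_true])

end TypeD

end Cfsg.Agent.H565.RV
end

-- part: H565/RV/OwnA
section
/-!
# TEAM RV, row `NRow` in the own odd characteristic: type `A_n` (helper565)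

The double cosets of the maximal Young subgroups `S_k × S_l` of the symmetric group are self-inverse; the diagram
automorphisms of odd order are trivial.
-/

set_option autoImplicit false

namespace Cfsg.Agent.H565.RV.TypeA

open Cfsg.Agent.Tits.Core Cfsg.Agent.H976.OddM.ParA Cfsg.Agent.H454.PiBS
open Cfsg.Agent.LieRecognition.BNCox (cA cA_apply)
open Cfsg.Agent.S2530 (adj)

variable {n : ℕ}

theorem YJ_compl (i : Fin n) : YJ ({i}ᶜ : Set (Fin n)) = Yg (fun x : Fin (n + 1) => decide (x.val ≤ i.val)) := by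
  apply le_antisymm
  · refine (Subgroup.closure_le _).2 ?_
    rintro _ ⟨j, hj, rfl⟩ x
    have hji : j.val ≠ i.val := fun e => hj (Fin.ext e)
    change decide ((Equiv.swap j.castSucc j.succ x).val ≤ i.val) = decide (x.val ≤ i.val)
    rw [Equiv.swap_apply_def]
    split_ifs with h2 h3
    · rw [h2]
      simp only [Fin.val_succ, Fin.val_castSucc, decide_eq_decide]
      omega
    · rw [h3]
      simp only [Fin.val_succ, Fin.val_castSucc, decide_eq_decide]
      omega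
    · rfl
  · have key : ∀ (d : ℕ) (x y : Fin (n + 1)), (x.val + d ≤ i.val ∨ i.val < x.val) → x.val + d = y.val →
        y ∈ MulAction.orbit (YJ ({i}ᶜ : Set (Fin n))) x := by
      intro d
      induction d with
      | zero =>
        intro x y _ h
        have : y = x := Fin.ext (by omega)
        rw [this]
        exact MulAction.mem_orbit_self x
      | succ d ih =>
        intro x y hx h
        have hy := y.2
        have h1 := ih x ⟨x.val + d, by omega⟩ (by omega) rfl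
        have h2 : Equiv.swap (⟨x.val + d, by omega⟩ : Fin (n + 1)) y ∈ YJ ({i}ᶜ : Set (Fin n)) := by
          refine Subgroup.subset_closure ⟨⟨x.val + d, by omega⟩, ?_, ?_⟩
          · rw [Set.mem_compl_singleton_iff]
            intro e
            have e' := congrArg Fin.val e
            simp only at e'
            omega
          · unfold adj
            congr 1
            exact Fin.ext (by simp; omega)
        have h3 : y = (⟨_, h2⟩ : YJ ({i}ᶜ : Set (Fin n))) • (⟨x.val + d, by omega⟩ : Fin (n + 1)) := by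
          change y = Equiv.swap _ _ _
          rw [Equiv.swap_apply_left]
        rw [h3]
        exact (MulAction.orbit_eq_iff.2 h1) ▸ MulAction.mem_orbit _ _
    intro σ hσ
    rw [mem_YJ]
    intro x
    have h1 : decide ((σ x).val ≤ i.val) = decide (x.val ≤ i.val) := hσ x
    rw [decide_eq_decide] at h1
    rcases le_total x.val (σ x).val with h2 | h2
    · exact key ((σ x).val - x.val) x (σ x) (by omega) (by omega)
    · have h3 := key (x.val - (σ x).val) (σ x) x (by omega) (by omega)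
      exact MulAction.mem_orbit_symm.1 h3

/-- two maps with fibres of the same cardinality differ by a permutation -/
theorem exists_perm {α β : Type*} [Fintype α] [DecidableEq β] (f g : α → β)
    (h : ∀ b, Fintype.card {x // f x = b} = Fintype.card {x // g x = b}) :
    ∃ s : Equiv.Perm α, ∀ x, f (s x) = g x := by
  classical
  let e : ∀ b, {x // g x = b} ≃ {x // f x = b} := fun b => Fintype.equivOfCardEq (h b).symm
  refine ⟨(Equiv.sigmaFiberEquiv g).symm.trans ((Equiv.sigmaCongrRight e).trans (Equiv.sigmaFiberEquiv f)), ?_⟩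
  intro x
  exact (e (g x) ⟨x, rfl⟩).2

theorem exists_swap {α : Type*} [Fintype α] [DecidableEq α] (c : α → Bool) (w : Equiv.Perm α) :
    ∃ s : Equiv.Perm α, ∀ x, c (s x) = c (w⁻¹ x) ∧ c (w⁻¹ (s x)) = c x := by
  obtain ⟨s, hs⟩ := exists_perm (fun x => (c x, c (w⁻¹ x))) (fun x => (c (w⁻¹ x), c x)) (by
    have hc : (Finset.univ.filter fun x => c x = true).card = (Finset.univ.filter fun x => c (w⁻¹ x) = true).card := by
      apply Finset.card_bij (fun x _ => w x)
      · intro x hx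
        rw [Finset.mem_filter] at hx ⊢
        refine ⟨Finset.mem_univ _, ?_⟩
        rw [ia]
        exact hx.2
      · intro x _ y _ h
        exact w.injective h
      · intro y hy
        rw [Finset.mem_filter] at hy
        exact ⟨w⁻¹ y, by rw [Finset.mem_filter]; exact ⟨Finset.mem_univ _, hy.2⟩, ai w y⟩
    have h1 := Finset.card_filter_add_card_filter_not (s := Finset.univ.filter fun x => c x = true)
      (p := fun x => c (w⁻¹ x) = true)
    have h2 := Finset.card_filter_add_card_filter_not (s := Finset.univ.filter fun x => c (w⁻¹ x) = true)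
      (p := fun x => c x = true)
    rw [Finset.filter_filter, Finset.filter_filter] at h1 h2
    have h3 : (Finset.univ.filter fun x => c x = true ∧ c (w⁻¹ x) = true).card =
        (Finset.univ.filter fun x => c (w⁻¹ x) = true ∧ c x = true).card := by
      congr 1
      ext x
      simp only [Finset.mem_filter, Finset.mem_univ, true_and]
      exact and_comm
    have h4 : (Finset.univ.filter fun x => c x = true ∧ ¬ c (w⁻¹ x) = true).card =
        (Finset.univ.filter fun x => c (w⁻¹ x) = true ∧ ¬ c x = true).card := by omega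
    rintro ⟨b1, b2⟩
    rw [Fintype.card_subtype, Fintype.card_subtype]
    cases b1 <;> cases b2
    · congr 1
      ext x
      simp only [Finset.mem_filter, Finset.mem_univ, true_and, Prod.mk.injEq]
      exact and_comm
    · have e1 : (Finset.univ.filter fun x => (c x, c (w⁻¹ x)) = (false, true)) =
          (Finset.univ.filter fun x => c (w⁻¹ x) = true ∧ ¬ c x = true) := by
        ext x
        simp only [Finset.mem_filter, Finset.mem_univ, true_and, Prod.mk.injEq, Bool.not_eq_true]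
        exact and_comm
      have e2 : (Finset.univ.filter fun x => (c (w⁻¹ x), c x) = (false, true)) =
          (Finset.univ.filter fun x => c x = true ∧ ¬ c (w⁻¹ x) = true) := by
        ext x
        simp only [Finset.mem_filter, Finset.mem_univ, true_and, Prod.mk.injEq, Bool.not_eq_true]
        exact and_comm
      rw [e1, e2, h4]
    · have e1 : (Finset.univ.filter fun x => (c x, c (w⁻¹ x)) = (true, false)) =
          (Finset.univ.filter fun x => c x = true ∧ ¬ c (w⁻¹ x) = true) := by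
        ext x
        simp only [Finset.mem_filter, Finset.mem_univ, true_and, Prod.mk.injEq, Bool.not_eq_true]
      have e2 : (Finset.univ.filter fun x => (c (w⁻¹ x), c x) = (true, false)) =
          (Finset.univ.filter fun x => c (w⁻¹ x) = true ∧ ¬ c x = true) := by
        ext x
        simp only [Finset.mem_filter, Finset.mem_univ, true_and, Prod.mk.injEq, Bool.not_eq_true]
      rw [e1, e2, h4]
    · congr 1
      ext x
      simp only [Finset.mem_filter, Finset.mem_univ, true_and, Prod.mk.injEq]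
      exact and_comm)
  exact ⟨s, fun x => ⟨congrArg Prod.fst (hs x), congrArg Prod.snd (hs x)⟩⟩

theorem selfInv {M : CoxeterMatrix (Fin n)} (cs : CoxeterSystem M (Equiv.Perm (Fin (n + 1)))) (hcs : cs.simple = adj n) (i : Fin n) :
    SelfInv cs ({i}ᶜ : Set (Fin n)) := by
  have hW : WJ cs ({i}ᶜ : Set (Fin n)) = Yg (fun x : Fin (n + 1) => decide (x.val ≤ i.val)) := by
    rw [← YJ_compl]
    unfold WJ YJ
    rw [hcs]
  intro w
  obtain ⟨s, hs⟩ := exists_swap (fun x : Fin (n + 1) => decide (x.val ≤ i.val)) w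
  rw [hW]
  refine ⟨(s * w)⁻¹, inv_mem ?_, w⁻¹ * s, ?_, by group⟩
  · intro x
    have h1 := (hs (w x)).1
    rw [ia] at h1
    exact h1
  · intro x
    exact (hs x).2

/-- the diagram automorphisms of odd order are trivial -/
theorem aut_odd {σ : Equiv.Perm (Fin n)} (hσ : σ ∈ autM (cA n)) (hodd : Odd (orderOf σ)) (i : Fin n) : σ i = i := by
  have hadj : ∀ a b : Fin n, (a.val + 1 = b.val ∨ b.val + 1 = a.val) →
      ((σ a).val + 1 = (σ b).val ∨ (σ b).val + 1 = (σ a).val) := by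
    intro a b hab
    have h1 := hσ a b
    rw [cA_apply, cA_apply] at h1
    unfold Cfsg.Agent.LieRecognition.CoxClass.mA at h1
    have hne : ¬ a.val = b.val := by omega
    rw [if_neg hne, if_pos hab] at h1
    by_contra hcon
    rw [if_neg hcon] at h1
    split_ifs at h1 <;> omega
  have hadj' : ∀ a b : Fin n, ((σ a).val + 1 = (σ b).val ∨ (σ b).val + 1 = (σ a).val) →
      (a.val + 1 = b.val ∨ b.val + 1 = a.val) := by
    intro a b hab
    have h1 := hσ a b
    rw [cA_apply, cA_apply] at h1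
    unfold Cfsg.Agent.LieRecognition.CoxClass.mA at h1
    have hne : ¬ (σ a).val = (σ b).val := by omega
    rw [if_neg hne, if_pos hab] at h1
    by_contra hcon
    rw [if_neg hcon] at h1
    split_ifs at h1 <;> omega
  have hn : 0 < n := lt_of_le_of_lt (Nat.zero_le _) i.2
  have hend : ∀ e : Fin n, (e.val = 0 ∨ e.val + 1 = n) → ((σ e).val = 0 ∨ (σ e).val + 1 = n) := by
    intro e he
    by_contra hcon
    have hk := (σ e).2
    set k := (σ e).val with hkdef
    have h1 := hadj' e (σ⁻¹ ⟨k - 1, by omega⟩) (by rw [ai]; simp only; omega)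
    have h2 := hadj' e (σ⁻¹ ⟨k + 1, by omega⟩) (by rw [ai]; simp only; omega)
    have h3 := (σ⁻¹ (⟨k - 1, by omega⟩ : Fin n)).2
    have h4 := (σ⁻¹ (⟨k + 1, by omega⟩ : Fin n)).2
    have h5 : σ⁻¹ (⟨k - 1, by omega⟩ : Fin n) = σ⁻¹ ⟨k + 1, by omega⟩ := Fin.ext (by omega)
    have h6 := congrArg Fin.val ((σ⁻¹).injective h5)
    simp only at h6
    omega
  have h0 : σ ⟨0, hn⟩ = ⟨0, hn⟩ := by
    by_contra hne
    have hl : (σ ⟨0, hn⟩).val + 1 = n := by
      rcases hend ⟨0, hn⟩ (Or.inl rfl) with h | h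
      · exact absurd (Fin.ext h) hne
      · exact h
    have hl2 : (σ (σ ⟨0, hn⟩)).val = 0 := by
      rcases hend (σ ⟨0, hn⟩) (Or.inr hl) with h | h
      · exact h
      · exact absurd (σ.injective (Fin.ext (by omega) : σ (σ ⟨0, hn⟩) = σ ⟨0, hn⟩)) hne
    have h2 : (σ ^ 2) ⟨0, hn⟩ = ⟨0, hn⟩ := by
      rw [pow_two, Equiv.Perm.mul_apply]
      exact Fin.ext hl2
    obtain ⟨k, hk⟩ := hodd
    have h3 : (σ ^ (2 * k)) ⟨0, hn⟩ = ⟨0, hn⟩ := by
      rw [pow_mul]
      clear hk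
      induction k with
      | zero => rfl
      | succ k ih => rw [pow_succ, Equiv.Perm.mul_apply, h2, ih]
    have h4 : (σ ^ (2 * k + 1)) ⟨0, hn⟩ = ⟨0, hn⟩ := by rw [← hk, pow_orderOf_eq_one]; rfl
    rw [pow_succ', Equiv.Perm.mul_apply, h3] at h4
    exact hne h4
  have key : ∀ m : ℕ, ∀ (hm : m < n), σ ⟨m, hm⟩ = ⟨m, hm⟩ := by
    intro m
    induction m using Nat.strong_induction_on with
    | _ m ih =>
      intro hm
      rcases Nat.eq_zero_or_pos m with rfl | hpos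
      · exact h0
      · have h1 := ih (m - 1) (by omega) (by omega)
        have h2 := hadj ⟨m - 1, by omega⟩ ⟨m, hm⟩ (Or.inl (by simp only; omega))
        rw [h1] at h2
        simp only at h2
        apply Fin.ext
        simp only
        rcases h2 with h2 | h2
        · omega
        · exfalso
          have h3 := ih (m - 2) (by omega) (by omega)
          have h4 : σ ⟨m, hm⟩ = σ ⟨m - 2, by omega⟩ := by
            rw [h3]; exact Fin.ext (by simp only; omega)
          have h5 := congrArg Fin.val (σ.injective h4)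
          simp only at h5
          omega
  exact key i.val i.2

end Cfsg.Agent.H565.RV.TypeA
end

-- part: H565/RV/OwnE6
section
/-!
# TEAM RV, row `NRow` in the own odd characteristic: type `E₆` (helper565)

The parabolic subgroups of odd index of `W(E₆)` are contained in a `W(D₅)`; the three double cosets of `W(D₅)` are
self-inverse; the diagram automorphisms of odd order are trivial.
-/

set_option autoImplicit false
set_option linter.style.longLine false

namespace Cfsg.Agent.H565.RV.E6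

open Cfsg.Agent.Tits.Core Cfsg.Agent.H976.OddM.ParE6 Cfsg.Agent.H454.PiBS

def trA : List (List (Fin 6)) := [[], [0], [2, 0], [3, 2, 0], [1, 3, 2, 0], [4, 3, 2, 0], [4, 1, 3, 2, 0], [5, 4, 3, 2, 0], [3, 4, 1, 3, 2, 0], [5, 4, 1, 3, 2, 0], [2, 3, 4, 1, 3, 2, 0], [5, 3, 4, 1, 3, 2, 0], [0, 2, 3, 4, 1, 3, 2, 0], [5, 2, 3, 4, 1, 3, 2, 0], [4, 5, 3, 4, 1, 3, 2, 0], [5, 0, 2, 3, 4, 1, 3, 2, 0], [4, 5, 2, 3, 4, 1, 3, 2, 0], [4, 5, 0, 2, 3, 4, 1, 3, 2, 0], [3, 4, 5, 2, 3, 4, 1, 3, 2, 0], [3, 4, 5, 0, 2, 3, 4, 1, 3, 2, 0], [1, 3, 4, 5, 2, 3, 4, 1, 3, 2, 0], [1, 3, 4, 5, 0, 2, 3, 4, 1, 3, 2, 0], [2, 3, 4, 5, 0, 2, 3, 4, 1, 3, 2, 0], [2, 1, 3, 4, 5, 0, 2, 3, 4, 1, 3, 2, 0], [3, 2, 1, 3, 4, 5, 0, 2, 3, 4, 1, 3, 2, 0], [4, 3, 2, 1, 3, 4, 5, 0, 2, 3, 4, 1, 3, 2, 0], [5, 4, 3, 2, 1, 3, 4, 5, 0, 2, 3, 4, 1, 3, 2, 0]]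

def labA : List (Fin 3) := [0, 1, 1, 1, 1, 1, 1, 1, 1, 1, 1, 1, 2, 1, 1, 2, 1, 2, 1, 2, 1, 2, 2, 2, 2, 2, 2]

def repsA : List (Fin 27) := [0, 1, 12]

def wdA : List (List (Fin 6)) := [[], [], [2], [3, 2], [1, 3, 2], [4, 3, 2], [4, 1, 3, 2], [5, 4, 3, 2], [3, 4, 1, 3, 2], [5, 4, 1, 3, 2], [2, 3, 4, 1, 3, 2], [5, 3, 4, 1, 3, 2], [], [5, 2, 3, 4, 1, 3, 2], [4, 5, 3, 4, 1, 3, 2], [5], [4, 5, 2, 3, 4, 1, 3, 2], [4, 5], [3, 4, 5, 2, 3, 4, 1, 3, 2], [3, 4, 5], [1, 3, 4, 5, 2, 3, 4, 1, 3, 2], [1, 3, 4, 5], [2, 3, 4, 5], [2, 1, 3, 4, 5], [3, 2, 1, 3, 4, 5], [4, 3, 2, 1, 3, 4, 5], [5, 4, 3, 2, 1, 3, 4, 5]]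

def trB : List (List (Fin 6)) := [[0, 2, 3, 4, 5, 1, 3, 4, 2, 3, 0, 2, 1, 3, 4, 5], [2, 3, 4, 5, 1, 3, 4, 2, 3, 0, 2, 1, 3, 4, 5], [3, 4, 5, 1, 3, 4, 2, 3, 0, 2, 1, 3, 4, 5], [4, 5, 1, 3, 4, 2, 3, 0, 2, 1, 3, 4, 5], [4, 5, 3, 4, 2, 3, 0, 2, 1, 3, 4, 5], [5, 1, 3, 4, 2, 3, 0, 2, 1, 3, 4, 5], [5, 3, 4, 2, 3, 0, 2, 1, 3, 4, 5], [1, 3, 4, 2, 3, 0, 2, 1, 3, 4, 5], [5, 4, 2, 3, 0, 2, 1, 3, 4, 5], [3, 4, 2, 3, 0, 2, 1, 3, 4, 5], [5, 4, 3, 0, 2, 1, 3, 4, 5], [4, 2, 3, 0, 2, 1, 3, 4, 5], [5, 4, 3, 2, 1, 3, 4, 5], [4, 3, 0, 2, 1, 3, 4, 5], [2, 3, 0, 2, 1, 3, 4, 5], [4, 3, 2, 1, 3, 4, 5], [3, 0, 2, 1, 3, 4, 5], [3, 2, 1, 3, 4, 5], [0, 2, 1, 3, 4, 5], [2, 1, 3, 4, 5], [0, 2, 3, 4, 5], [2, 3, 4, 5], [1, 3, 4, 5], [3, 4, 5], [4, 5], [5], []]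

def labB : List (Fin 3) := [0, 0, 0, 0, 0, 0, 0, 1, 0, 1, 0, 1, 0, 1, 1, 1, 1, 1, 1, 1, 1, 1, 1, 1, 1, 1, 2]

def repsB : List (Fin 27) := [0, 7, 26]

def wdB : List (List (Fin 6)) := [[], [0], [2, 0], [3, 2, 0], [1, 3, 2, 0], [4, 3, 2, 0], [4, 1, 3, 2, 0], [], [3, 4, 1, 3, 2, 0], [1], [2, 3, 4, 1, 3, 2, 0], [3, 1], [0, 2, 3, 4, 1, 3, 2, 0], [2, 3, 1], [4, 3, 1], [0, 2, 3, 1], [4, 2, 3, 1], [4, 0, 2, 3, 1], [3, 4, 2, 3, 1], [3, 4, 0, 2, 3, 1], [1, 3, 4, 2, 3, 1], [1, 3, 4, 0, 2, 3, 1], [2, 3, 4, 0, 2, 3, 1], [2, 1, 3, 4, 0, 2, 3, 1], [3, 2, 1, 3, 4, 0, 2, 3, 1], [4, 3, 2, 1, 3, 4, 0, 2, 3, 1], []]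

structure Tab (p : Fin 27) (JL : List (Fin 6)) (tr : List (List (Fin 6))) (lab : List (Fin 3)) (reps : List (Fin 27))
    (wd : List (List (Fin 6))) : Prop where
  fix : ∀ j ∈ JL, tb j p = p
  inv : ∀ j ∈ JL, ∀ x, lab.getD (tb j x).val 0 = lab.getD x.val 0
  mem : ∀ x : Fin 27, ∀ j ∈ wd.getD x.val [], j ∈ JL
  eq : ∀ x : Fin 27, (wd.getD x.val []).foldr tb (reps.getD (lab.getD x.val 0).val 0) = x
  tr_eq : ∀ x : Fin 27, (tr.getD x.val []).foldr tb p = x
  rev : ∀ x : Fin 27, lab.getD ((tr.getD x.val []).reverse.foldr tb p).val 0 = lab.getD x.val 0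

theorem tabA : Tab 0 [1, 2, 3, 4, 5] trA labA repsA wdA := by constructor <;> decide +kernel

theorem tabB : Tab 26 [0, 1, 2, 3, 4] trB labB repsB wdB := by constructor <;> decide +kernel

variable {W : Type*} [Group W] (cs : CoxeterSystem CoxeterMatrix.E₆ W)

theorem exists_word_inv : ∀ ω : List (Fin 6), ∃ w : W, (∀ x, phi cs w x = ω.foldr tb x) ∧
    ∀ x, phi cs w⁻¹ x = ω.reverse.foldr tb x
  | [] => ⟨1, fun x => by rw [map_one]; rfl, fun x => by rw [inv_one, map_one]; rfl⟩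
  | j :: ω => by
    obtain ⟨w, h1, h2⟩ := exists_word_inv ω
    refine ⟨cs.simple j * w, fun x => ?_, fun x => ?_⟩
    · rw [map_mul, Equiv.Perm.mul_apply, h1, phi_simple, List.foldr_cons]
    · rw [mul_inv_rev, cs.inv_simple, map_mul, Equiv.Perm.mul_apply, phi_simple, h2, List.reverse_cons,
        List.foldr_append]
      rfl

theorem selfInv_of_tab [Finite W] {p : Fin 27} {JL : List (Fin 6)} {tr : List (List (Fin 6))} {lab : List (Fin 3)}
    {reps : List (Fin 27)} {wd : List (List (Fin 6))} (T : Tab p JL tr lab reps wd)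
    (hcard : Nat.card (WJ cs {j | j ∈ JL}) = 1920) : SelfInv cs {j | j ∈ JL} := by
  have hst := WJ_eq_stab cs (p := p) (J := {j | j ∈ JL}) T.fix hcard
  have hmem : ∀ w, w ∈ WJ cs {j | j ∈ JL} ↔ phi cs w p = p := fun w => by rw [hst]; rfl
  have hlab : ∀ w ∈ WJ cs {j | j ∈ JL}, ∀ x, lab.getD (phi cs w x).val 0 = lab.getD x.val 0 := fun w hw =>
    inv_eq cs (fun x : Fin 27 => lab.getD x.val 0) T.inv hw
  have horb : ∀ x y : Fin 27, lab.getD x.val 0 = lab.getD y.val 0 → ∃ a ∈ WJ cs {j | j ∈ JL}, phi cs a x = y := by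
    intro x y h
    obtain ⟨a, ha, h1⟩ := exists_word cs (K := {j | j ∈ JL}) (wd.getD x.val []) (T.mem x)
    obtain ⟨b, hb, h2⟩ := exists_word cs (K := {j | j ∈ JL}) (wd.getD y.val []) (T.mem y)
    have h3 : phi cs a (reps.getD (lab.getD x.val 0).val 0) = x := by rw [h1, T.eq]
    have h4 : phi cs b (reps.getD (lab.getD y.val 0).val 0) = y := by rw [h2, T.eq]
    refine ⟨b * a⁻¹, mul_mem hb (inv_mem ha), ?_⟩
    have h5 : phi cs a⁻¹ x = reps.getD (lab.getD x.val 0).val 0 := by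
      conv_lhs => rw [← h3]
      rw [← Equiv.Perm.mul_apply, ← map_mul, inv_mul_cancel, map_one]
      rfl
    rw [map_mul, Equiv.Perm.mul_apply, h5, h, h4]
  intro w
  obtain ⟨v, hv1, hv2⟩ := exists_word_inv cs (tr.getD (phi cs w p).val [])
  have h1 : phi cs v p = phi cs w p := by rw [hv1, T.tr_eq]
  -- `w = v b`
  have hb : v⁻¹ * w ∈ WJ cs {j | j ∈ JL} := by
    rw [hmem, map_mul, Equiv.Perm.mul_apply, ← h1, ← Equiv.Perm.mul_apply, ← map_mul, inv_mul_cancel, map_one]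
    rfl
  have h2 : lab.getD (phi cs w⁻¹ p).val 0 = lab.getD (phi cs w p).val 0 := by
    have h3 : w⁻¹ = (v⁻¹ * w)⁻¹ * v⁻¹ := by group
    rw [h3, map_mul, Equiv.Perm.mul_apply, hlab _ (inv_mem hb), hv2, T.rev]
  obtain ⟨a, ha, h3⟩ := horb _ _ h2.symm
  refine ⟨a, ha, w⁻¹ * a⁻¹ * w⁻¹, ?_, by group⟩
  rw [hmem, map_mul, map_mul, Equiv.Perm.mul_apply, Equiv.Perm.mul_apply, ← h3, ← Equiv.Perm.mul_apply (phi cs a⁻¹),
    ← map_mul, inv_mul_cancel, map_one, Equiv.Perm.one_apply, ← Equiv.Perm.mul_apply, ← map_mul, inv_mul_cancel, map_one]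
  rfl

def EM (i j : Fin 6) : ℕ := CoxeterMatrix.E₆ i j

def vv (a b c d e f : Fin 6) (i : Fin 6) : Fin 6 := ([a,b,c,d,e,f] : List (Fin 6)).getD i.val 0

theorem aut_aux : ∀ a0 a1 : Fin 6, EM a0 a1 = EM 0 1 → ∀ a2, EM a0 a2 = EM 0 2 → EM a1 a2 = EM 1 2 →
    ∀ a3, EM a0 a3 = EM 0 3 → EM a1 a3 = EM 1 3 → EM a2 a3 = EM 2 3 →
    ∀ a4, EM a0 a4 = EM 0 4 → EM a1 a4 = EM 1 4 → EM a2 a4 = EM 2 4 → EM a3 a4 = EM 3 4 →
    ∀ a5, EM a0 a5 = EM 0 5 → EM a1 a5 = EM 1 5 → EM a2 a5 = EM 2 5 → EM a3 a5 = EM 3 5 → EM a4 a5 = EM 4 5 →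
    ∀ i, vv a0 a1 a2 a3 a4 a5 (vv a0 a1 a2 a3 a4 a5 i) = i := by
  decide +kernel

theorem aut_sq (σ : Equiv.Perm (Fin 6)) (h : ∀ i j, CoxeterMatrix.E₆ (σ i) (σ j) = CoxeterMatrix.E₆ i j) :
    σ * σ = 1 := by
  have hv : ∀ i, vv (σ 0) (σ 1) (σ 2) (σ 3) (σ 4) (σ 5) i = σ i := by
    intro i
    fin_cases i <;> rfl
  have h1 := aut_aux (σ 0) (σ 1) (h 0 1) (σ 2) (h 0 2) (h 1 2) (σ 3) (h 0 3) (h 1 3) (h 2 3)
    (σ 4) (h 0 4) (h 1 4) (h 2 4) (h 3 4) (σ 5) (h 0 5) (h 1 5) (h 2 5) (h 3 5) (h 4 5)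
  ext i
  have h2 := h1 i
  rw [hv, hv] at h2
  exact congrArg Fin.val h2

theorem tyOK [Finite W] : TyOK cs := by
  intro J hJ hodd
  have hsub : ∀ (L : List (Fin 6)) (i : Fin 6), i ∉ J → (∀ j, j ∉ L → j = i) → J ⊆ {j | j ∈ L} := by
    intro L i hi hL j hj
    by_contra h
    rw [hL j h] at hj
    exact hi hj
  have hno : ∀ {L : List (Fin 6)} {m : ℕ}, Nat.card (WJ cs {j | j ∈ L}) = m → ¬ 128 ∣ m → ¬ J ⊆ {j | j ∈ L} :=
    fun h1 h2 h3 => Nat.not_even_iff_odd.2 hodd (even_of_le cs h3 h1 h2)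
  have hσ : ∀ σ ∈ autM CoxeterMatrix.E₆, Odd (orderOf σ) → ∀ i, σ i = i := by
    intro σ hσ hod i
    have h1 := aut_sq σ hσ
    have h2 : σ = 1 := eq_one_of_sq hod h1
    rw [h2]; rfl
  by_cases h1 : (1 : Fin 6) ∈ J
  swap
  · exact absurd (hsub _ 1 h1 (by decide)) (hno (card_b5 cs) (by decide))
  by_cases h2 : (2 : Fin 6) ∈ J
  swap
  · exact absurd (hsub _ 2 h2 (by decide)) (hno (card_c5 cs) (by decide))
  by_cases h3 : (3 : Fin 6) ∈ J
  swap
  · exact absurd (hsub _ 3 h3 (by decide)) (hno (card_d5 cs) (by decide))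
  by_cases h4 : (4 : Fin 6) ∈ J
  swap
  · exact absurd (hsub _ 4 h4 (by decide)) (hno (card_e5 cs) (by decide))
  by_cases h0 : (0 : Fin 6) ∈ J
  · by_cases h5 : (5 : Fin 6) ∈ J
    · exfalso
      apply hJ
      rw [Set.eq_univ_iff_forall]
      intro j
      fin_cases j <;> assumption
    · refine ⟨5, h5, ?_, fun σ h h' => hσ σ h h' 5⟩
      have e : ({5}ᶜ : Set (Fin 6)) = {j | j ∈ ([0, 1, 2, 3, 4] : List (Fin 6))} := by
        ext j
        revert j
        change ∀ j : Fin 6, ¬ j = 5 ↔ j ∈ ([0, 1, 2, 3, 4] : List (Fin 6))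
        decide
      rw [e]
      exact selfInv_of_tab cs tabB (card_5x cs)
  · refine ⟨0, h0, ?_, fun σ h h' => hσ σ h h' 0⟩
    have e : ({0}ᶜ : Set (Fin 6)) = {j | j ∈ ([1, 2, 3, 4, 5] : List (Fin 6))} := by
      ext j
      revert j
      change ∀ j : Fin 6, ¬ j = 0 ↔ j ∈ ([1, 2, 3, 4, 5] : List (Fin 6))
      decide
    rw [e]
    exact selfInv_of_tab cs tabA (card_5 cs)

end Cfsg.Agent.H565.RV.E6
end

-- part: H565/RV/OwnMain
section
/-!
# TEAM RV, row `NRow` in the own odd characteristic (helper565)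

`nRow_own` : `S` a finite simple group of Lie type in the odd characteristic `p`, `2, p ∈ π`: `NRow π S`.
-/

set_option autoImplicit false

namespace Cfsg.Agent.H565.RV

open Cfsg Cfsg.Agent.FixBN Cfsg.Agent.Tits.Core Cfsg.Agent.Tits.OfBN Cfsg.Agent.Schreier.BNSch
open Cfsg.Agent.Omega.ML.Ex.Typ Cfsg.Agent.LieRecognition.BNCox
open Cfsg.Agent.H165.RV Cfsg.Agent.LieRecognition.ReeAbs Cfsg.Agent.LieRecognition.ReeSylowThree
open Cfsg.Agent

/-! ### transfer between Coxeter systems of the same type -/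

section congr

variable {I : Type*} {M : CoxeterMatrix I} {W W' : Type*} [Group W] [Group W'] (cs : CoxeterSystem M W)
  (cs' : CoxeterSystem M W')

/-- the isomorphism of the Coxeter groups -/
noncomputable def isoW : W ≃* W' := cs.mulEquiv.trans cs'.mulEquiv.symm

theorem isoW_simple (i : I) : isoW cs cs' (cs.simple i) = cs'.simple i := by
  unfold isoW
  rw [MulEquiv.trans_apply, MulEquiv.symm_apply_eq]
  have h1 : cs.mulEquiv (cs.simple i) = M.simple i := cs.mulEquiv.apply_symm_apply _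
  have h2 : cs'.mulEquiv (cs'.simple i) = M.simple i := cs'.mulEquiv.apply_symm_apply _
  rw [h1, h2]

theorem map_WJ (J : Set I) : (WJ cs J).map (isoW cs cs').toMonoidHom = WJ cs' J := by
  unfold WJ
  rw [MonoidHom.map_closure, ← Set.image_comp]
  congr 1
  exact Set.image_congr fun i _ => isoW_simple cs cs' i

theorem index_WJ (J : Set I) : (WJ cs J).index = (WJ cs' J).index := by
  rw [← map_WJ cs cs' J]
  exact (Subgroup.index_map_equiv (WJ cs J) (isoW cs cs')).symm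

theorem SelfInv.congr {J : Set I} (h : SelfInv cs J) : SelfInv cs' J := by
  intro w
  obtain ⟨a, ha, b, hb, hab⟩ := h ((isoW cs cs').symm w)
  refine ⟨isoW cs cs' a, ?_, isoW cs cs' b, ?_, ?_⟩
  · rw [← map_WJ cs cs' J]; exact ⟨a, ha, rfl⟩
  · rw [← map_WJ cs cs' J]; exact ⟨b, hb, rfl⟩
  · apply (isoW cs cs').symm.injective
    rw [map_inv, hab, map_mul, map_mul, MulEquiv.symm_apply_apply, MulEquiv.symm_apply_apply]

theorem TyOK.congr (h : TyOK cs) : TyOK cs' := by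
  intro J hJ hodd
  rw [← index_WJ cs cs'] at hodd
  obtain ⟨i, hi, h1, h2⟩ := h J hJ hodd
  exact ⟨i, hi, SelfInv.congr cs cs' h1, h2⟩

theorem tyOK_of_even (h : EvenIdx M) : TyOK cs := by
  intro J hJ hodd
  rw [index_WJ cs M.toCoxeterSystem] at hodd
  exact absurd (h J hJ) (Nat.not_even_iff_odd.2 hodd)

end congr

/-! ### the row of a split (B,N)-pair -/

/-- the condition on the type -/
def TyOKM {I : Type*} (M : CoxeterMatrix I) : Prop := Finite M.Group → TyOK M.toCoxeterSystem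

theorem TyOKM.of_even {I : Type*} {M : CoxeterMatrix I} (h : Finite M.Group → EvenIdx M) : TyOKM M :=
  fun hf => tyOK_of_even _ (h hf)

theorem nRow_of_splitT {G : Type*} [Group G] [Finite G] [IsSimpleGroup G] {I : Type*} [Nonempty I]
    {M : CoxeterMatrix I} {p : ℕ} [hp : Fact p.Prime] (hp2 : p ≠ 2) (hG : HasSplitT p M G) (hE : TyOKM M)
    {π : Set ℕ} (h2 : 2 ∈ π) (hpi : p ∈ π) : NRow π G := by
  intro H hH
  obtain ⟨P, U, e, hs, hN, cs, hcs⟩ := hG
  have hI : Finite I := FixBN.OfBN.finite_I e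
  have hth := thick P e cs hcs
  let S := FixBN.OfBN.sys e cs hcs hs
  have hW : Finite (WP P) := inferInstanceAs (Finite (P.N ⧸ (P.B ⊓ P.N).subgroupOf P.N))
  have hMf : Finite M.Group := Finite.of_equiv _ cs.mulEquiv.toEquiv
  have hty : TyOK cs := TyOK.congr M.toCoxeterSystem cs (hE hMf)
  obtain ⟨i0⟩ := ‹Nonempty I›
  obtain ⟨x, -⟩ := S.exists_fix ⊥ IsPGroup.of_bot
  have hne : S.U x ≠ ⊥ := by
    intro h
    obtain ⟨y, z, hyz, hy, hz⟩ := hth x i0
    obtain ⟨u, hu, huz⟩ := S.exists_move (hy.trans hz.symm)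
    rw [h, Subgroup.mem_bot] at hu
    rw [hu, one_smul] at huz
    exact hyz huz
  have hgen : ∀ K : Subgroup G, (∀ y, S.U y ≤ K) → K = ⊤ := by
    intro K hK
    set N : Subgroup G := ⨆ y, S.U y with hN
    have hNn : N.Normal := by
      refine ⟨fun n hn g => ?_⟩
      have h1 : N ≤ N.comap (MulAut.conj g).toMonoidHom := by
        refine iSup_le fun y u hu => ?_
        rw [Subgroup.mem_comap]
        exact (le_iSup (fun y => S.U y) (g • y)) (S.conj_mem_U hu g)
      exact h1 hn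
    have h2 : N ≤ K := iSup_le hK
    rcases hNn.eq_bot_or_eq_top with h | h
    · exact absurd (le_bot_iff.1 (h ▸ le_iSup (fun y => S.U y) x)) hne
    · exact top_le_iff.1 (h ▸ h2)
  exact nAt_of_type S hp2 hth hgen h2 hpi hty (fun τ => FixOdd.exists_tw hs e cs hcs τ) hH

theorem nRow_of_rgdt {G : Type*} [Group G] [Finite G] [IsSimpleGroup G] {l : ℕ} (hl : 0 < l)
    {M : CoxeterMatrix (Fin l)} {p : ℕ} [hp : Fact p.Prime] (hp2 : p ≠ 2) (hG : HasRGDT p M G) (hE : TyOKM M)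
    {π : Set ℕ} (h2 : 2 ∈ π) (hpi : p ∈ π) : NRow π G := by
  have : Nonempty (Fin l) := ⟨⟨0, hl⟩⟩
  exact nRow_of_splitT hp2 (hG.hasSplitT hp.out hl) hE h2 hpi

/-! ### the types -/

theorem tyOKM_A (n : ℕ) : TyOKM (cA n) := by
  rw [Cfsg.Agent.Nodes.RootsA.cA_eq]
  intro _
  obtain ⟨cs, hcs⟩ := Cfsg.Agent.S2530.result n
  refine TyOK.congr cs _ fun J hJ _ => ?_
  obtain ⟨i, hi⟩ := (Set.ne_univ_iff_exists_notMem _).1 hJ
  refine ⟨i, hi, TypeA.selfInv cs (funext hcs) i, fun σ hσ h => ?_⟩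
  rw [← Cfsg.Agent.Nodes.RootsA.cA_eq] at hσ
  exact TypeA.aut_odd hσ h i

theorem tyOKM_E6 : TyOKM CoxeterMatrix.E₆ := by
  intro hf
  have : Finite CoxeterMatrix.E₆.Group := hf
  exact E6.tyOK _

theorem tyOKM_B (n : ℕ) : TyOKM (CoxeterMatrix.B n) := TyOKM.of_even fun _ => evenIdx_B

theorem tyOKM_D {n : ℕ} (hn : 1 ≤ n) : TyOKM (Nodes.TypeD.M n) := TyOKM.of_even fun _ => evenIdx_TypeD hn

theorem tyOKM_E7 : TyOKM CoxeterMatrix.E₇ := TyOKM.of_even fun _ => evenIdx_E7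

theorem tyOKM_E8 : TyOKM CoxeterMatrix.E₈ := TyOKM.of_even fun _ => evenIdx_E8

theorem tyOKM_F4 : TyOKM CoxeterMatrix.F₄ := TyOKM.of_even fun _ => evenIdx_F4

theorem tyOKM_G2 : TyOKM CoxeterMatrix.G₂ := TyOKM.of_even fun _ => evenIdx_G2

/-! ### the Ree groups -/

/-- a (B,N)-pair with one distinguished generator has type `B 1` (helper892) -/
theorem splitT_of_single {p : ℕ} {K : Type*} [Group K] (P : Cfsg.BNPair K) (U : Subgroup K) {s : K}
    (hS : P.S = {s}) (h : Split P p U) : HasSplitT p (CoxeterMatrix.B 1) K := by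
  obtain ⟨M, hM⟩ := Tits.Labels.exists_bnType P
  have hu : Unique P.S := by
    rw [hS]
    infer_instance
  let f : P.S ≃ Fin 1 := Equiv.ofUnique _ _
  have h1 := Tits.Labels.bnType_reindex hM f
  have h2 : M.reindex f = CoxeterMatrix.B 1 := by
    ext i j
    have hi : i = j := Subsingleton.elim _ _
    subst hi
    rw [CoxeterMatrix.diagonal, CoxeterMatrix.diagonal]
  rw [h2] at h1
  exact ⟨P, U, _, h, h1⟩

theorem splitT_of_equiv {p : ℕ} {K L : Type*} [Group K] [Group L] (e : K ≃* L) (P : Cfsg.BNPair K)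
    (U : Subgroup K) {s : K} (hS : P.S = {s}) (h : Split P p U) :
    HasSplitT p (CoxeterMatrix.B 1) L := by
  refine splitT_of_single (Transport.mapBN e P) (U.map e.toMonoidHom) (s := e s) ?_ (Transport.split e P h)
  change e '' P.S = {e s}
  rw [hS, Set.image_singleton]

theorem nRow_ree {G : Type*} [Group G] [Finite G] [IsSimpleGroup G] (h : Lie.IsoRee G) {π : Set ℕ} (h2 : 2 ∈ π)
    (h3 : 3 ∈ π) : NRow π G := by
  obtain ⟨K, i1, i2, m, hm, hK, ⟨e⟩⟩ := h
  have : Fact (Nat.Prime 3) := ⟨Nat.prime_three⟩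
  obtain ⟨U, h, n, D⟩ := Cfsg.Agent.ChevalleyStructure.Ree.Data.exists_data hK
  have hT : HasSplitT 3 (CoxeterMatrix.B 1) G :=
    splitT_of_equiv e.symm (ReeSplit.bnPair D) (uSub D) (s := n) rfl (ReeSplit.split hK D)
  exact nRow_of_splitT (by norm_num) hT (tyOKM_B 1) h2 h3

/-! ### all the groups -/

/-- **`NRow` in the own odd characteristic.** -/
theorem nRow_own {p : ℕ} (hp2 : p ≠ 2) {G : Type*} [Group G] [Finite G] [IsSimpleGroup G] (hG : IsLieTypeChar p G)
    {π : Set ℕ} (h2 : 2 ∈ π) (hpi : p ∈ π) : NRow π G := by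
  rcases hG with h | h | h | h | h | h | h | h | h | h | h
  · have hp : Fact p.Prime := by
      obtain ⟨F, _, _, _, -⟩ := h
      exact ⟨CharP.char_is_prime F p⟩
    obtain ⟨n, hn, h⟩ := typ_of_PSL h
    exact nRow_of_rgdt (by omega) hp2 h (tyOKM_A n) h2 hpi
  · obtain ⟨F, _, _, _, m, hm, -, ⟨e⟩⟩ := h
    have hp : Fact p.Prime := ⟨CharP.char_is_prime F p⟩
    exact nRow_of_rgdt (by omega) hp2 ((typ_PSp (by omega)).of_equiv e.symm) (tyOKM_B m) h2 hpi
  · obtain ⟨F, _, _, _, n, q, hF, hn, -, ⟨e⟩⟩ := h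
    have hp : Fact p.Prime := ⟨CharP.char_is_prime F p⟩
    obtain ⟨m, hm, h⟩ := typ_PSU (p := p) hF hn
    exact nRow_of_rgdt (by omega) hp2 (h.of_equiv e.symm) (tyOKM_B m) h2 hpi
  · obtain ⟨F, i1, i2, i3, m, hm, hodd, ⟨e⟩⟩ := h
    have hp : Fact p.Prime := ⟨CharP.char_is_prime F p⟩
    have h2' : (2 : F) ≠ 0 := by
      intro h2
      have h3 : CharP F 2 := CharTwo.of_one_ne_zero_of_two_eq_zero one_ne_zero h2
      exact hp2 (CharP.eq F i3 h3)
    exact nRow_of_rgdt (by omega) hp2 ((H519.LieRank.typ_PO_odd h2' (by omega)).of_equiv e.symm) (tyOKM_B m) h2 hpi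
  · obtain ⟨F, i1, i2, i3, m, hm, ⟨e⟩⟩ := h
    have hp : Fact p.Prime := ⟨CharP.char_is_prime F p⟩
    obtain ⟨n, rfl⟩ : ∃ n, m = n + 3 := ⟨m - 3, by omega⟩
    exact nRow_of_rgdt (by omega) hp2 ((typ_PO_plus n).of_equiv e.symm) (tyOKM_D (n := n + 1) (by omega)) h2 hpi
  · obtain ⟨F, i1, i2, i3, m, a, b, hm, hab, ⟨e⟩⟩ := h
    have hp : Fact p.Prime := ⟨CharP.char_is_prime F p⟩
    exact nRow_of_rgdt (by omega) hp2 ((typ_PO_minus hab (by omega)).of_equiv e.symm) (tyOKM_B (m - 1)) h2 hpi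
  · have hp : Fact p.Prime := by
      obtain ⟨F, _, _, _, -⟩ := h
      exact ⟨CharP.char_is_prime F p⟩
    rcases typ_of_exc h with h | h | h | h | h
    · exact nRow_of_rgdt (by omega) hp2 h tyOKM_G2 h2 hpi
    · exact nRow_of_rgdt (by omega) hp2 h tyOKM_F4 h2 hpi
    · exact nRow_of_rgdt (by omega) hp2 h tyOKM_E6 h2 hpi
    · exact nRow_of_rgdt (by omega) hp2 h tyOKM_E7 h2 hpi
    · exact nRow_of_rgdt (by omega) hp2 h tyOKM_E8 h2 hpi
  · obtain ⟨K, _, _, _, q, hq, ⟨hK, ⟨e⟩⟩ | ⟨hK, ⟨e⟩⟩⟩ := h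
    · have hp : Fact p.Prime := ⟨CharP.char_is_prime K p⟩
      exact nRow_of_rgdt (by omega) hp2 ((typ_twE6 hq hK p).of_equiv e.symm) tyOKM_F4 h2 hpi
    · have hp : Fact p.Prime := ⟨CharP.char_is_prime K p⟩
      exact nRow_of_rgdt (by omega) hp2 ((typ_twD4 hq hK p).of_equiv e.symm) tyOKM_G2 h2 hpi
  · exact absurd h.1 hp2
  · exact absurd h.1 hp2
  · obtain ⟨rfl, h⟩ := h
    exact nRow_ree h h2 hpi

end Cfsg.Agent.H565.RV
end

-- part: H305/RV/Ree
section
/-!
# TEAM RV: the `N`-row of `²G₂(q)`, `3 ∉ π` (helper305)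

A `3'`-subgroup `H` of `²G₂(q)` of order divisible by 8 is solvable, so it normalises a Sylow subgroup or one of the cyclic
subgroups of S2361; by the orders of the normalizers it normalises a nontrivial 2-subgroup.

* `nRow_ree`.
-/

set_option autoImplicit false

namespace Cfsg.Agent.H305.RV

open Cfsg Subgroup Cfsg.Agent.H563.RV Cfsg.Agent.H165.RV Cfsg.Agent.LieRecognition

universe u

/-- a `3'`-group of order not divisible by 64 is solvable -/
theorem solvable_of_three (k : ℕ) : ∀ (G : Type u) [Group G] [Finite G], Nat.card G ≤ k → ¬ 3 ∣ Nat.card G →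
    ¬ 64 ∣ Nat.card G → Group.IsSolvable G := by
  induction k with
  | zero =>
    intro G _ _ h0
    exact absurd (Nat.card_pos (α := G)) (by omega)
  | succ k ih =>
    intro G _ _ hk h3 hd
    by_cases hs : IsSimpleGroup G
    · by_cases hc : ∃ a b : G, a * b ≠ b * a
      · obtain ⟨-, m, hm, hcard⟩ := Cfsg.Agent.S0336.result hc h3
        exfalso
        apply hd
        rw [hcard]
        refine Dvd.dvd.mul_right (Dvd.dvd.mul_right ?_ _) _
        rw [← pow_mul]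
        exact pow_dvd_pow 2 (show 6 ≤ (2 * m + 1) * 2 by omega)
      · push Not at hc
        exact Group.isSolvable_of_comm hc
    · by_cases ht : Subsingleton G
      · exact Group.isSolvable_of_comm (fun a b => Subsingleton.elim _ _)
      · have hnt : Nontrivial G := not_subsingleton_iff_nontrivial.mp ht
        have hex : ∃ N : Subgroup G, N.Normal ∧ N ≠ ⊥ ∧ N ≠ ⊤ := by
          by_contra hcon
          push Not at hcon
          exact hs ⟨fun N hN => or_iff_not_imp_left.mpr (hcon N hN)⟩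
        obtain ⟨N, hN, hN1, hN2⟩ := hex
        have hci := Subgroup.card_mul_index N
        have hNpos : 1 < Nat.card N := (Subgroup.one_lt_card_iff_ne_bot N).mpr hN1
        have hi1 : N.index ≠ 1 := fun h => hN2 (Subgroup.index_eq_one.mp h)
        have hipos : N.index ≠ 0 := Subgroup.index_ne_zero_of_finite
        have hlt1 : Nat.card N < Nat.card G := by
          have : 2 ≤ N.index := by omega
          nlinarith
        have hlt2 : Nat.card (G ⧸ N) < Nat.card G := by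
          change N.index < _
          have : 1 ≤ N.index := by omega
          nlinarith only [hci, hNpos, hlt1]
        have hs1 : Group.IsSolvable N := ih N (by omega) (fun h => h3 (h.trans (Subgroup.card_subgroup_dvd_card N)))
          (fun h => hd (h.trans (Subgroup.card_subgroup_dvd_card N)))
        have hdq : Nat.card (G ⧸ N) ∣ Nat.card G := Subgroup.index_dvd_card N
        have hs2 : Group.IsSolvable (G ⧸ N) := ih (G ⧸ N) (by omega) (fun h => h3 (h.trans hdq)) (fun h => hd (h.trans hdq))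
        exact Group.isSolvable_of_ker_le_range N.subtype (QuotientGroup.mk' N) (by simp)

/-- a nontrivial 2-subgroup normalised by `H ≥ P` -/
theorem hasTwo_of_norm {S : Type*} [Group S] [Finite S] {H N : Subgroup S} (P : Sylow 2 S) (hP : (P : Subgroup S) ≤ H)
    (hN : IsPGroup 2 N) (h0 : N ≠ ⊥) (hn : H ≤ normalizer (N : Set S)) : HasTwo H := by
  have hsup : IsPGroup 2 (((P : Subgroup S) ⊔ N : Subgroup S)) :=
    P.isPGroup'.to_sup_of_normal_right' hN (fun g hg => hn (hP hg))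
  have hNP : N ≤ P := le_sup_right.trans (le_of_eq (P.is_maximal' hsup le_sup_left))
  exact ⟨N, h0, hNP.trans hP, hN, fun h hh n hn' => (mem_normalizer_iff.1 (hn hh) n).1 hn'⟩

theorem card_normalizer_map {G : Type*} [Group G] (A : Subgroup G) (g : G) :
    Nat.card (normalizer ((A.map (MulAut.conj g).toMonoidHom : Subgroup G) : Set G)) =
      Nat.card (normalizer (A : Set G)) := by
  have h1 : normalizer ((A.map (MulAut.conj g).toMonoidHom : Subgroup G) : Set G) =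
      (normalizer (A : Set G)).map (MulAut.conj g).toMonoidHom := by
    ext x
    have hm : ∀ y : G, y ∈ A.map (MulAut.conj g).toMonoidHom ↔ g⁻¹ * y * g ∈ A := by
      intro y
      constructor
      · rintro ⟨a, ha, rfl⟩
        have : g⁻¹ * ((MulAut.conj g).toMonoidHom a) * g = a := by
          show g⁻¹ * (g * a * g⁻¹) * g = a
          group
        rwa [this]
      · intro hy
        refine ⟨_, hy, ?_⟩
        show g * (g⁻¹ * y * g) * g⁻¹ = y
        group
    rw [mem_normalizer_iff]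
    constructor
    · intro hx
      refine ⟨g⁻¹ * x * g, ?_, by show g * (g⁻¹ * x * g) * g⁻¹ = x; group⟩
      rw [SetLike.mem_coe, mem_normalizer_iff]
      intro a
      have h2 := hx (g * a * g⁻¹)
      rw [hm, hm] at h2
      have e1 : g⁻¹ * (g * a * g⁻¹) * g = a := by group
      have e2 : g⁻¹ * (x * (g * a * g⁻¹) * x⁻¹) * g = g⁻¹ * x * g * a * (g⁻¹ * x * g)⁻¹ := by group
      rw [e1, e2] at h2
      exact h2
    · rintro ⟨y, hy, rfl⟩ a
      rw [SetLike.mem_coe, mem_normalizer_iff] at hy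
      rw [hm, hm]
      have h2 := hy (g⁻¹ * a * g)
      have e2 : g⁻¹ * ((MulAut.conj g).toMonoidHom y * a * ((MulAut.conj g).toMonoidHom y)⁻¹) * g =
          y * (g⁻¹ * a * g) * y⁻¹ := by
        show g⁻¹ * ((g * y * g⁻¹) * a * (g * y * g⁻¹)⁻¹) * g = _
        group
      rw [e2]
      exact h2
  rw [h1]
  exact Nat.card_congr ((normalizer (A : Set G)).equivMapOfInjective (MulAut.conj g).toMonoidHom
    (MulAut.conj g).injective).toEquiv.symm

section borel

variable {K : Type*} [Field K] {G : Type*} [Group G] {m : ℕ} {U : K → K → K → G} {h : Kˣ → G} {n : G}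

/-- the normalizer of the Sylow 3-subgroup `uSub` -/
theorem card_normalizer_uSub [Fintype K] (D : ReeAbs.Data m U h n) :
    Nat.card (normalizer (ReeSylowThree.uSub D : Set G)) = Fintype.card K ^ 3 * (Fintype.card K - 1) := by
  have hmem : ∀ g : G, g ∈ normalizer (ReeSylowThree.uSub D : Set G) ↔ ∃ t u v a, g = U t u v * h a := by
    intro g
    constructor
    · intro hg
      rcases D.bruhat g with h1 | ⟨t, u, v, a, t', u', v', rfl⟩
      · exact h1
      · exfalso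
        have hy : U 0 0 1 ∈ ReeSylowThree.uSub D := ⟨_, _, _, rfl⟩
        have hx := (mem_normalizer_iff.1 hg (U 0 0 1)).1 hy
        have hx : U t u v * h a * n * U t' u' v' * U 0 0 1 * (U t u v * h a * n * U t' u' v')⁻¹ ∈
          ReeSylowThree.uSub D := hx
        obtain ⟨s₁, s₂, s₃, hs⟩ := (ReeSylowThree.uSub D).mul_mem hx ⟨t, u, v, rfl⟩
        obtain ⟨r₁, r₂, r₃, hr⟩ := (ReeSylowThree.uSub D).mul_mem ⟨t', u', v', rfl⟩ hy
        have h1 : U s₁ s₂ s₃ * h a * n * U t' u' v' = U t u v * h a * n * U r₁ r₂ r₃ := by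
          rw [← hs, ← hr]
          group
        obtain ⟨-, -, -, -, e1, e2, e3⟩ := D.inj₂ _ _ _ _ _ _ _ _ _ _ _ _ _ _ h1
        rw [← e1, ← e2, ← e3] at hr
        have h2 : U 0 0 1 = 1 := mul_eq_left.1 hr
        rw [← D.U_zero] at h2
        exact one_ne_zero (ReeSylowThree.U_injective D h2).2.2
    · rintro ⟨t, u, v, a, rfl⟩
      rw [mem_normalizer_iff]
      intro z
      have e1 : ∀ z, z ∈ ReeSylowThree.uSub D → U t u v * h a * z * (U t u v * h a)⁻¹ ∈ ReeSylowThree.uSub D := by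
        intro z hz
        have h1 : U t u v * h a * z * (U t u v * h a)⁻¹ = U t u v * (h a * z * (h a)⁻¹) * (U t u v)⁻¹ := by group
        rw [h1]
        exact (ReeSylowThree.uSub D).mul_mem ((ReeSylowThree.uSub D).mul_mem ⟨_, _, _, rfl⟩
          (ReeSylowThree.h_conj_mem D a hz)) ((ReeSylowThree.uSub D).inv_mem ⟨_, _, _, rfl⟩)
      refine ⟨e1 z, fun hz => ?_⟩
      have h2 : (U t u v)⁻¹ * (U t u v * h a * z * (U t u v * h a)⁻¹) * U t u v ∈ ReeSylowThree.uSub D :=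
        (ReeSylowThree.uSub D).mul_mem ((ReeSylowThree.uSub D).mul_mem ((ReeSylowThree.uSub D).inv_mem ⟨_, _, _, rfl⟩)
          hz) ⟨_, _, _, rfl⟩
      have h3 := ReeSylowThree.h_conj_mem D a⁻¹ h2
      rw [D.h_inv] at h3
      have h4 : (h a)⁻¹ * ((U t u v)⁻¹ * (U t u v * h a * z * (U t u v * h a)⁻¹) * U t u v) * ((h a)⁻¹)⁻¹ = z := by
        group
      rwa [h4] at h3
  let f : K × K × K × Kˣ → normalizer (ReeSylowThree.uSub D : Set G) := fun x =>
    ⟨U x.1 x.2.1 x.2.2.1 * h x.2.2.2, (hmem _).2 ⟨_, _, _, _, rfl⟩⟩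
  have hf : Function.Bijective f := by
    constructor
    · rintro ⟨t, u, v, a⟩ ⟨t', u', v', a'⟩ he
      obtain ⟨rfl, rfl, rfl, rfl⟩ := D.inj₁ _ _ _ _ _ _ _ _ (congrArg Subtype.val he)
      rfl
    · rintro ⟨g, hg⟩
      obtain ⟨t, u, v, a, rfl⟩ := (hmem _).1 hg
      exact ⟨(t, u, v, a), rfl⟩
  rw [← Nat.card_congr (Equiv.ofBijective f hf)]
  simp only [Nat.card_prod, Nat.card_units, Nat.card_eq_fintype_card]
  ring

end borel

section

variable {K : Type*} [Field K] [Fintype K] {m : ℕ}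

theorem q_eq (m : ℕ) : ∃ k, 3 ^ (2 * m + 1) = 8 * k + 3 := by
  have h1 := ReeAbs.three_pow_odd_mod m
  exact ⟨3 ^ (2 * m + 1) / 8, by omega⟩

theorem card_eq (hK : Fintype.card K = 3 ^ (2 * m + 1)) :
    ∃ c, Odd c ∧ Nat.card ↥(Cfsg.Lie.twistedG2 K (3 ^ m)) = 8 * c := by
  obtain ⟨k, hk⟩ := q_eq m
  rw [ReeSylowThree.card_eq (ReeFinal.data hK), hK, hk]
  refine ⟨(8 * k + 3) ^ 3 * (4 * k + 1) * (128 * k ^ 3 + 144 * k ^ 2 + 54 * k + 7), ?_, ?_⟩
  · refine Odd.mul (Odd.mul (Odd.pow ⟨4 * k + 1, by ring⟩) ⟨2 * k, by ring⟩) ⟨64 * k ^ 3 + 72 * k ^ 2 + 27 * k + 3, by ring⟩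
  · rw [show 8 * k + 3 - 1 = 8 * k + 2 by (clear * -; omega)]
    ring

theorem not_eight_of {a : ℕ} (h : ∃ c, Odd c ∧ (a = 2 * c ∨ a = 4 * c)) {b : ℕ} (hb : b ∣ a) (h8 : 8 ∣ b) : False := by
  obtain ⟨c, ⟨d, rfl⟩, h1⟩ := h
  have h2 : 8 ∣ a := h8.trans hb
  rcases h1 with h1 | h1 <;> (clear * - h2 h1; omega)

/-- **a `3'`-subgroup of order divisible by 8 has a nontrivial normal 2-subgroup** -/
theorem hasTwo_ree (hm : 1 ≤ m) (hK : Fintype.card K = 3 ^ (2 * m + 1))
    (H : Subgroup ↥(Cfsg.Lie.twistedG2 K (3 ^ m))) (h3 : ¬ 3 ∣ Nat.card H) (h8 : 8 ∣ Nat.card H) : HasTwo H := by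
  obtain ⟨k, hk⟩ := q_eq m
  have hD := ReeFinal.data (m := m) hK
  have hfin : Finite ↥(Cfsg.Lie.twistedG2 K (3 ^ m)) := ReeSylowThree.finite hD
  obtain ⟨c, hc, hcard⟩ := card_eq (K := K) (m := m) hK
  have hp2 : Fact (Nat.Prime 2) := ⟨Nat.prime_two⟩
  have hp3 : Fact (Nat.Prime 3) := ⟨Nat.prime_three⟩
  have hfac : (Nat.card ↥(Cfsg.Lie.twistedG2 K (3 ^ m))).factorization 2 = 3 := by
    have hc0 : c ≠ 0 := by rintro rfl; exact absurd hc (by decide)
    rw [hcard, show 8 = 2 ^ 3 by norm_num, Nat.factorization_mul (by norm_num) hc0, Finsupp.add_apply,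
      Nat.factorization_eq_zero_of_not_dvd (fun h => by obtain ⟨d, rfl⟩ := hc; omega : ¬ 2 ∣ c),
      Nat.Prime.factorization_pow Nat.prime_two, Finsupp.single_apply, if_pos rfl]
  have hHc : Nat.card H ∣ 8 * c := hcard ▸ card_subgroup_dvd_card H
  have hsol : Group.IsSolvable H := solvable_of_three _ H le_rfl h3 (fun h => by
    have h1 : 64 ∣ 8 * c := h.trans hHc
    obtain ⟨d, rfl⟩ := hc
    omega)
  -- a Sylow subgroup inside `H`
  obtain ⟨P, hP⟩ : ∃ P : Sylow 2 ↥(Cfsg.Lie.twistedG2 K (3 ^ m)), (P : Subgroup _) ≤ H := by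
    obtain ⟨Q, hQ⟩ := Sylow.exists_subgroup_card_pow_prime (G := H) 2 (n := 3) (by norm_num only []; exact h8)
    refine ⟨Sylow.ofCard (Q.map H.subtype) ?_, map_subtype_le Q⟩
    rw [card_map_of_injective H.subtype_injective, hQ, hfac]
  obtain ⟨A, hHA, hA⟩ := S2361.result hm hK H hsol
  have hdvd : Nat.card H ∣ Nat.card (normalizer (A : Set ↥(Cfsg.Lie.twistedG2 K (3 ^ m)))) := card_dvd_of_le hHA
  have hr : 3 ^ (m + 1) ≤ 3 ^ (2 * m + 1) := Nat.pow_le_pow_right (by norm_num) (by omega)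
  have hro : Odd (3 ^ (m + 1)) := Odd.pow (by decide)
  -- the normalizers of the cyclic subgroups
  have hcyc : ∀ d N : ℕ, (d ∣ (3 ^ (2 * m + 1) - 1) / 2 ∨ d ∣ (3 ^ (2 * m + 1) + 1) / 4 ∨
      d ∣ 3 ^ (2 * m + 1) - 3 ^ (m + 1) + 1 ∨ d ∣ 3 ^ (2 * m + 1) + 3 ^ (m + 1) + 1) →
      (∃ B : Subgroup ↥(Cfsg.Lie.twistedG2 K (3 ^ m)), IsCyclic B ∧ Nat.card B = d ∧
        Nat.card (normalizer (B : Set ↥(Cfsg.Lie.twistedG2 K (3 ^ m)))) = N) → IsCyclic A → Nat.card A = d →
      Nat.card (normalizer (A : Set ↥(Cfsg.Lie.twistedG2 K (3 ^ m)))) = N := by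
    rintro d N hd ⟨B, hB1, hB2, hB3⟩ h1 h2
    obtain ⟨g, hg⟩ := S2358.result hm hK d hd B A hB1 h1 hB2 h2
    rw [hg, card_normalizer_map, hB3]
  have h1158 := S1158.result (K := K) hm hK
  rcases hA with ⟨Q, rfl⟩ | ⟨Q, rfl⟩ | ⟨hAc, hA | hA | hA | hA⟩
  · refine hasTwo_of_norm P hP Q.isPGroup' (fun h0 => ?_) hHA
    have h1 : Nat.card ↥(Q : Subgroup ↥(Cfsg.Lie.twistedG2 K (3 ^ m))) =
        2 ^ (Nat.card ↥(Cfsg.Lie.twistedG2 K (3 ^ m))).factorization 2 := Q.card_eq_multiplicity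
    rw [hfac, h0, card_bot] at h1
    norm_num at h1
  · exfalso
    have hfac3 : (Nat.card ↥(Cfsg.Lie.twistedG2 K (3 ^ m))).factorization 3 = 3 * (2 * m + 1) := by
      rw [ReeSylowThree.card_eq hD, hK]
      set q := 3 ^ (2 * m + 1) with hq
      have hq3 : 3 ∣ q := dvd_pow_self 3 (by omega)
      have hq0 : 0 < q := by positivity
      have h1 : ¬ 3 ∣ (q - 1) * (q ^ 3 + 1) := by
        rw [Nat.prime_three.dvd_mul]
        have h3 : 3 ∣ q ^ 3 := dvd_pow hq3 (by norm_num)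
        rintro (h | h) <;> (clear * - hk h h3; omega)
      rw [mul_assoc, Nat.factorization_mul (by positivity) (by intro h0; rw [h0] at h1; exact h1 (dvd_zero 3)),
        Finsupp.add_apply, Nat.factorization_eq_zero_of_not_dvd h1, hq, ← pow_mul,
        Nat.Prime.factorization_pow Nat.prime_three, Finsupp.single_apply, if_pos rfl, add_zero, mul_comm]
    let S : Sylow 3 ↥(Cfsg.Lie.twistedG2 K (3 ^ m)) := Sylow.ofCard (ReeSylowThree.uSub hD) (by
      rw [ReeSylowThree.card_uSub, hK, hfac3, ← pow_mul, mul_comm])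
    obtain ⟨g, hg⟩ := MulAction.exists_smul_eq ↥(Cfsg.Lie.twistedG2 K (3 ^ m)) S Q
    have h1 : (Q : Subgroup ↥(Cfsg.Lie.twistedG2 K (3 ^ m))) = (ReeSylowThree.uSub hD).map (MulAut.conj g).toMonoidHom := by
      rw [← hg]
      rfl
    rw [h1, card_normalizer_map, card_normalizer_uSub hD, hK, hk] at hdvd
    have h2 := h8.trans hdvd
    have h3 : Nat.Coprime 8 ((8 * k + 3) ^ 3) := by
      refine Nat.Coprime.pow_right 3 ?_
      rw [show 8 * k + 3 = 3 + 8 * k by ring, Nat.coprime_add_mul_left_right]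
      norm_num
    have h4 := h3.dvd_of_dvd_mul_left h2
    (clear * - h4; omega)
  · exfalso
    obtain ⟨B, hB1, hB2, hB3, -⟩ := h1158 ((3 ^ (2 * m + 1) - 1) / 2, 2 * (3 ^ (2 * m + 1) - 1)) (by simp only [_root_.Set.mem_insert_iff, _root_.Prod.mk.injEq, _root_.Set.mem_singleton_iff, _root_.true_or])
    have h1 := hcyc _ _ (Or.inl dvd_rfl) ⟨B, hB1, hB2, hB3⟩ hAc hA
    rw [h1] at hdvd
    refine not_eight_of ⟨4 * k + 1, ⟨2 * k, by ring⟩, Or.inr ?_⟩ hdvd h8
    show 2 * (3 ^ (2 * m + 1) - 1) = _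
    (clear * - hk; omega)
  · -- the cyclic subgroup of order `(q + 1) / 4`
    obtain ⟨h1, h2, -, -⟩ := (S2359.result hm hK A hAc).2 hA
    let E : Subgroup ↥(Cfsg.Lie.twistedG2 K (3 ^ m)) :=
      { carrier := {x | x ∈ centralizer (A : Set ↥(Cfsg.Lie.twistedG2 K (3 ^ m))) ∧ x * x = 1}
        mul_mem' := by
          rintro a b ⟨ha, ha2⟩ ⟨hb, hb2⟩
          refine ⟨mul_mem ha hb, ?_⟩
          have hab : a * b = b * a := congrArg Subtype.val (h1.is_comm.comm ⟨a, ha⟩ ⟨b, hb⟩)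
          calc a * b * (a * b) = a * (b * a) * b := by group
            _ = a * (a * b) * b := by rw [hab]
            _ = (a * a) * (b * b) := by group
            _ = 1 := by rw [ha2, hb2, one_mul]
        one_mem' := ⟨one_mem _, one_mul 1⟩
        inv_mem' := by
          rintro a ⟨ha, ha2⟩
          refine ⟨inv_mem ha, ?_⟩
          rw [← mul_inv_rev, ha2, inv_one] }
    have hEp : IsPGroup 2 E := by
      rintro ⟨x, hx⟩
      refine ⟨1, Subtype.ext ?_⟩
      show x ^ 2 ^ 1 = 1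
      rw [pow_one, pow_two]
      exact hx.2
    refine hasTwo_of_norm P hP hEp (fun h0 => ?_) ?_
    · obtain ⟨x, hx⟩ := exists_prime_orderOf_dvd_card' (G := ↥(centralizer (A : Set ↥(Cfsg.Lie.twistedG2 K (3 ^ m))))) 2
        (by rw [h2]; omega)
      have h3 : (x : ↥(Cfsg.Lie.twistedG2 K (3 ^ m))) ∈ E := by
        refine ⟨x.2, ?_⟩
        have h4 : x ^ 2 = 1 := by rw [← hx]; exact pow_orderOf_eq_one x
        rw [← pow_two]
        exact congrArg Subtype.val h4
      rw [h0, mem_bot] at h3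
      have h4 : x = 1 := Subtype.ext h3
      rw [h4, orderOf_one] at hx
      omega
    · intro g hg
      have hgA := hHA hg
      have key : ∀ y ∈ normalizer (A : Set ↥(Cfsg.Lie.twistedG2 K (3 ^ m))), ∀ x ∈ E, y * x * y⁻¹ ∈ E := by
        rintro y hy x ⟨hx, hx2⟩
        refine ⟨?_, ?_⟩
        · rw [mem_centralizer_iff]
          intro a ha
          have h5 : y⁻¹ * a * y ∈ A := by
            have := (mem_normalizer_iff.1 (inv_mem hy) a).1 ha
            rwa [inv_inv] at this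
          have h6 := mem_centralizer_iff.1 hx _ h5
          calc a * (y * x * y⁻¹) = y * ((y⁻¹ * a * y) * x) * y⁻¹ := by group
            _ = y * (x * (y⁻¹ * a * y)) * y⁻¹ := by rw [h6]
            _ = (y * x * y⁻¹) * a := by group
        · calc y * x * y⁻¹ * (y * x * y⁻¹) = y * (x * x) * y⁻¹ := by group
            _ = 1 := by rw [hx2]; group
      rw [mem_normalizer_iff]
      intro x
      refine ⟨key g hgA x, fun hx => ?_⟩
      have h7 := key g⁻¹ (inv_mem hgA) _ hx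
      have h8 : g⁻¹ * (g * x * g⁻¹) * g⁻¹⁻¹ = x := by group
      rwa [h8] at h7
  · exfalso
    obtain ⟨B, hB1, hB2, hB3, -⟩ := h1158 (3 ^ (2 * m + 1) - 3 ^ (m + 1) + 1, 6 * (3 ^ (2 * m + 1) - 3 ^ (m + 1) + 1))
      (by simp only [_root_.Set.mem_insert_iff, _root_.Prod.mk.injEq, _root_.mul_eq_mul_left_iff, _root_.Nat.add_right_cancel_iff, _root_.OfNat.ofNat_ne_zero, _root_.or_false, _root_.Set.mem_singleton_iff, _root_.and_self, _root_.true_or, _root_.or_true])
    have h1 := hcyc _ _ (Or.inr (Or.inr (Or.inl dvd_rfl))) ⟨B, hB1, hB2, hB3⟩ hAc hA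
    rw [h1] at hdvd
    obtain ⟨d, hd⟩ := hro
    refine not_eight_of ⟨3 * (3 ^ (2 * m + 1) - 3 ^ (m + 1) + 1), ?_, Or.inl ?_⟩ hdvd h8
    · rw [Nat.odd_iff]; (clear * - hk hd; omega)
    · show 6 * (3 ^ (2 * m + 1) - 3 ^ (m + 1) + 1) = _
      ring
  · exfalso
    obtain ⟨B, hB1, hB2, hB3, -⟩ := h1158 (3 ^ (2 * m + 1) + 3 ^ (m + 1) + 1, 6 * (3 ^ (2 * m + 1) + 3 ^ (m + 1) + 1))
      (by simp only [_root_.Set.mem_insert_iff, _root_.Prod.mk.injEq, _root_.mul_eq_mul_left_iff, _root_.Nat.add_right_cancel_iff, _root_.Nat.add_eq_left, _root_.Nat.pow_eq_zero, _root_.OfNat.ofNat_ne_zero, _root_.ne_eq, _root_.Nat.add_eq_zero_iff, _root_.one_ne_zero, _root_.and_false, _root_.not_false_eq_true, _root_.and_true, _root_.or_self, _root_.or_false, _root_.and_self, _root_.Set.mem_singleton_iff, _root_.or_true])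
    have h1 := hcyc _ _ (Or.inr (Or.inr (Or.inr dvd_rfl))) ⟨B, hB1, hB2, hB3⟩ hAc hA
    rw [h1] at hdvd
    obtain ⟨d, hd⟩ := hro
    refine not_eight_of ⟨3 * (3 ^ (2 * m + 1) + 3 ^ (m + 1) + 1), ?_, Or.inl ?_⟩ hdvd h8
    · rw [Nat.odd_iff]; (clear * - hk hd; omega)
    · show 6 * (3 ^ (2 * m + 1) + 3 ^ (m + 1) + 1) = _
      ring

end

theorem hasTwo_of_map {S T : Type*} [Group S] [Group T] (e : S ≃* T) {H : Subgroup S}
    (h : HasTwo (H.map (e : S ≃* T).toMonoidHom)) : HasTwo H := by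
  obtain ⟨N, h0, hle, hp, hn⟩ := h
  have hmem : ∀ x : S, e x ∈ H.map (e : S ≃* T).toMonoidHom ↔ x ∈ H := by
    intro x
    constructor
    · rintro ⟨y, hy, hxy⟩
      rwa [← e.injective hxy]
    · exact fun hx => ⟨x, hx, rfl⟩
  refine ⟨N.comap (e : S ≃* T).toMonoidHom, fun h1 => h0 ?_, fun x hx => (hmem x).1 (hle hx), ?_, ?_⟩
  · rw [eq_bot_iff]
    intro y hy
    obtain ⟨x, rfl⟩ := e.surjective y
    have h2 : x ∈ N.comap (e : S ≃* T).toMonoidHom := hy
    rw [h1, mem_bot] at h2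
    rw [h2, map_one, mem_bot]
  · exact hp.comap_of_injective _ e.injective
  · intro g hg x hx
    have h2 := hn (e g) ((hmem g).2 hg) (e x) hx
    show e (g * x * g⁻¹) ∈ N
    rwa [map_mul, map_mul, map_inv]

/-- **the `N`-row of `²G₂(q)`, `3 ∉ π`** -/
theorem nRow_ree {π : Set ℕ} {S : Type u} [Group S] [Finite S] (h : Lie.IsoRee S) (h2 : 2 ∈ π) (h3 : 3 ∉ π) :
    NRow π S := by
  obtain ⟨K, i1, i2, m, hm, hK, ⟨e⟩⟩ := h
  intro H hH
  apply HasTwo.nAt
  apply hasTwo_of_map e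
  have hcH : Nat.card ↥(H.map (e : S ≃* _).toMonoidHom) = Nat.card H := card_map_of_injective e.injective
  refine hasTwo_ree hm hK _ (fun hd => h3 (hH.1 3 Nat.prime_three (hcH ▸ hd))) ?_
  rw [hcH]
  obtain ⟨c, hc, hcard⟩ := card_eq (K := K) (m := m) hK
  have h4 := H.card_mul_index
  rw [Nat.card_congr e.toEquiv, hcard] at h4
  have h5 := hH.2 2 Nat.prime_two h2
  have h6 : Nat.Coprime 8 H.index := by
    rw [show 8 = 2 ^ 3 by norm_num]
    exact Nat.Coprime.pow_left 3 ((Nat.Prime.coprime_iff_not_dvd Nat.prime_two).2 h5)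
  exact h6.dvd_of_dvd_mul_right (Dvd.intro _ h4.symm)

end Cfsg.Agent.H305.RV
end

-- part: H165/RV/NRowFin
section
/-!
# TEAM RV: the `N`-row of all simple groups from the orthogonal and exceptional rows (helper165)
-/

set_option autoImplicit false

namespace Cfsg.Agent.H165.RV

open Subgroup Cfsg

universe u

/-- the remaining boxes of `NRow` -/
structure NRest (π : Set ℕ) : Prop where
  /-- orthogonal groups, `p ∉ π` -/
  oOdd : ∀ (S : Type u) [Group S] [Finite S] [IsSimpleGroup S], ∀ p : ℕ, p.Prime → p ≠ 2 → p ∉ π →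
    IsPOmegaOddChar p S → NRow π S
  oPlus : ∀ (S : Type u) [Group S] [Finite S] [IsSimpleGroup S], ∀ p : ℕ, p.Prime → p ≠ 2 → p ∉ π →
    IsPOmegaPlusChar p S → NRow π S
  oMinus : ∀ (S : Type u) [Group S] [Finite S] [IsSimpleGroup S], ∀ p : ℕ, p.Prime → p ≠ 2 → p ∉ π →
    IsPOmegaMinusChar p S → NRow π S
  /-- exceptional groups, `p ∉ π` -/
  exc : ∀ (S : Type u) [Group S] [Finite S] [IsSimpleGroup S], ∀ p : ℕ, p.Prime → p ≠ 2 → p ∉ π →
    IsExceptionalChevChar p S → NRow π S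
  tw : ∀ (S : Type u) [Group S] [Finite S] [IsSimpleGroup S], ∀ p : ℕ, p.Prime → p ≠ 2 → p ∉ π →
    IsTwistedE6D4Char p S → NRow π S

variable {π : Set ℕ} {S : Type u} [Group S] [Finite S] [IsSimpleGroup S]

/-- groups of Lie type, `p` odd, `p ∉ π` -/
theorem nrow_cross' (B : NRest.{u} π) (h2 : 2 ∈ π) {p : ℕ} (hp : p.Prime) (hpπ : p ∉ π) (h : IsLieTypeChar p S) :
    NRow π S := by
  have hp2 : p ≠ 2 := by rintro rfl; exact hpπ h2
  have : Fact p.Prime := ⟨hp⟩
  rcases h with h | h | h | h | h | h | h | h | ⟨h, -⟩ | ⟨h, -⟩ | ⟨rfl, h⟩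
  · obtain ⟨F, iF, iFin, iC, n, hn, hn4, ⟨e⟩⟩ := h
    rcases Nat.lt_or_ge n 3 with h3 | h3
    · obtain rfl : n = 2 := by omega
      exact H563.RV.nRow_psl2 e (p := p) h2 hpπ
    · have hodd : Odd (Fintype.card F) := by
        refine Nat.odd_iff.2 (FiniteField.odd_card_of_char_ne_two ?_)
        rw [ringChar.eq F p]; exact hp2
      exact H563.RV.nRow_lin (e := true) (n := n) (q := Fintype.card F) (F := F) ⟨e⟩ (by simp) h3 hodd (p := p) h2 hpπ
  · obtain ⟨F, iF, iFin, iC, m, hm, -, ⟨e⟩⟩ := h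
    exact H563.RV.nRow_sp e hm (p := p) h2 hpπ
  · obtain ⟨F, iF, iFin, iC, n, q, hq, hn, -, ⟨e⟩⟩ := h
    have hodd : Odd (Fintype.card F) := by
      refine Nat.odd_iff.2 (FiniteField.odd_card_of_char_ne_two ?_)
      rw [ringChar.eq F p]; exact hp2
    have hq' : Odd q := by
      rw [hq, pow_two] at hodd
      exact Nat.Odd.of_mul_left hodd
    exact H563.RV.nRow_lin (e := false) (n := n) (q := q) (F := F) ⟨e⟩ (by simpa using hq) hn hq' (p := p) h2 hpπ
  · exact B.oOdd S p hp hp2 hpπ h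
  · exact B.oPlus S p hp hp2 hpπ h
  · exact B.oMinus S p hp hp2 hpπ h
  · exact B.exc S p hp hp2 hpπ h
  · exact B.tw S p hp hp2 hpπ h
  · exact absurd h hp2
  · exact absurd h hp2
  · exact H305.RV.nRow_ree h h2 hpπ

/-- **The `N`-row of all known simple groups.** -/
theorem nrow_fin (B : NRest.{u} π) (h2 : 2 ∈ π) (hna : ¬ IsMulCommutative S) (hK : IsKnownSimple' S) : NRow π S := by
  rcases Cfsg.Agent.OddHalf.Known.classify hna hK with h | ⟨p, hp, hp2, h⟩ | (h | h) | h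
  · exact H728.RV.R1.nRow_one h2 hna (Or.inl h)
  · by_cases hpπ : p ∈ π
    · exact H565.RV.nRow_own hp2 h h2 hpπ
    · exact nrow_cross' B h2 hp hpπ h
  · exact H728.RV.R1.nRow_one h2 hna (Or.inr (Or.inr (Or.inr h)))
  · exact H728.RV.R1.nRow_one h2 hna (Or.inr (Or.inr (Or.inl h)))
  · exact H728.RV.R1.nRow_one h2 hna (Or.inr (Or.inl h))

end Cfsg.Agent.H165.RV
end

-- part: H165/RV/BRowAll
section
/-!
# TEAM RV: the `B`-row of all simple groups (helper165)

`brow_all` : `BRow π G` for every known nonabelian simple group which is not one of the exceptional `PSp_{2n}(q)` of S2527.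
-/

set_option autoImplicit false

namespace Cfsg.Agent.H165.RV

open Subgroup Cfsg Cfsg.Agent.H408.Pron Cfsg.Agent.H408.Pron.RowsOdd
open scoped Pointwise

universe u v

/-- all subgroups of odd index are pronormal -/
theorem BRow.of_po {π : Set ℕ} (h2 : 2 ∈ π) {G : Type u} [Group G] (h : PO G) : BRow π G := by
  refine Or.inr fun H hH => h H ?_
  rw [← Nat.not_even_iff_odd]
  intro he
  exact hH.2 2 Nat.prime_two h2 he.two_dvd

/-- isomorphism invariance of the first alternative -/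
def NormC (G : Type u) [Group G] : Prop :=
  ∀ P : Sylow 2 G, ∀ g ∈ normalizer ((P : Subgroup G) : Set G), ∃ t ∈ P,
    t⁻¹ * g ∈ centralizer ((P : Subgroup G) : Set G)

theorem BRow.of_normC {π : Set ℕ} {G : Type u} [Group G] (h : NormC G) : BRow π G := Or.inl h

theorem NormC.of_one {G : Type u} [Group G] [Finite G] (S : Sylow 2 G)
    (h : ∀ g ∈ normalizer ((S : Subgroup G) : Set G), Odd (orderOf g) → ∀ s ∈ (S : Subgroup G), g * s = s * g) :
    NormC G := by
  -- for `S`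
  have hS : ∀ g ∈ normalizer ((S : Subgroup G) : Set G), ∃ t ∈ (S : Subgroup G),
      t⁻¹ * g ∈ centralizer ((S : Subgroup G) : Set G) := by
    intro g hg
    obtain ⟨a, ha, ho, s, hs, rfl⟩ := exists_odd_mul S hg
    refine ⟨s, hs, ?_⟩
    rw [mem_centralizer_iff]
    intro x hx
    have h1 : a * (s * x * s⁻¹) = (s * x * s⁻¹) * a :=
      h a ha ho _ (mul_mem (mul_mem hs hx) (inv_mem hs))
    calc x * (s⁻¹ * (a * s)) = s⁻¹ * ((s * x * s⁻¹) * a) * s := by group
      _ = s⁻¹ * (a * (s * x * s⁻¹)) * s := by rw [h1]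
      _ = s⁻¹ * (a * s) * x := by group
  intro P g hg
  obtain ⟨c, rfl⟩ := MulAction.exists_smul_eq G S P
  have hmem : ∀ x : G, x ∈ ((c • S : Sylow 2 G) : Subgroup G) ↔ c⁻¹ * x * c ∈ (S : Subgroup G) := by
    intro x
    rw [Sylow.coe_subgroup_smul, mem_pointwise_smul_iff_inv_smul_mem, ← map_inv, MulAut.smul_def, MulAut.conj_apply,
      inv_inv]
  have hg' : c⁻¹ * g * c ∈ normalizer ((S : Subgroup G) : Set G) := by
    rw [mem_normalizer_iff]
    intro x
    have h1 := mem_normalizer_iff.mp hg (c * x * c⁻¹)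
    change (c * x * c⁻¹ ∈ ((c • S : Sylow 2 G) : Subgroup G) ↔ g * (c * x * c⁻¹) * g⁻¹ ∈ ((c • S : Sylow 2 G) : Subgroup G)) at h1
    rw [hmem, hmem] at h1
    have e1 : c⁻¹ * (c * x * c⁻¹) * c = x := by group
    have e2 : c⁻¹ * (g * (c * x * c⁻¹) * g⁻¹) * c = c⁻¹ * g * c * x * (c⁻¹ * g * c)⁻¹ := by group
    rw [e1, e2] at h1
    exact h1
  obtain ⟨t, ht, htc⟩ := hS _ hg'
  refine ⟨c * t * c⁻¹, ?_, ?_⟩
  · show c * t * c⁻¹ ∈ ((c • S : Sylow 2 G) : Subgroup G)
    rw [hmem]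
    have e1 : c⁻¹ * (c * t * c⁻¹) * c = t := by group
    rw [e1]; exact ht
  · rw [mem_centralizer_iff]
    intro x hx
    have hx' : c⁻¹ * x * c ∈ (S : Subgroup G) := (hmem x).mp hx
    have h1 := mem_centralizer_iff.mp htc _ hx'
    calc x * ((c * t * c⁻¹)⁻¹ * g) = c * ((c⁻¹ * x * c) * (t⁻¹ * (c⁻¹ * g * c))) * c⁻¹ := by group
      _ = c * ((t⁻¹ * (c⁻¹ * g * c)) * (c⁻¹ * x * c)) * c⁻¹ := by rw [h1]
      _ = (c * t * c⁻¹)⁻¹ * g * x := by group

/-- `S` has no automorphism of odd order -/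
theorem NormC.of_aut {G : Type u} [Group G] [Finite G] (S : Sylow 2 G)
    (h : ∀ (φ : MulAut ↥(S : Subgroup G)) (k : ℕ), Odd k → φ ^ k = 1 → φ = 1) : NormC G := by
  refine NormC.of_one S fun g hg ho s hs => ?_
  set φ : MulAut ↥(S : Subgroup G) := (S : Subgroup G).normalizerMonoidHom ⟨g, hg⟩ with hφ
  have h1 : φ ^ orderOf g = 1 := by
    rw [hφ, ← map_pow]
    have : (⟨g, hg⟩ : Subgroup.normalizer ((S : Subgroup G) : Set G)) ^ orderOf g = 1 :=
      Subtype.ext (pow_orderOf_eq_one g)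
    rw [this, map_one]
  have h2 := h φ _ ho h1
  have h3 : ((φ ⟨s, hs⟩ : ↥(S : Subgroup G)) : G) = s := by rw [h2]; rfl
  have h4 : ((φ ⟨s, hs⟩ : ↥(S : Subgroup G)) : G) = g * s * g⁻¹ := rfl
  rw [h4] at h3
  calc g * s = g * s * g⁻¹ * g := by group
    _ = s * g := by rw [h3]

theorem NormC.congr {G : Type u} [Group G] [Finite G] {G' : Type v} [Group G'] [Finite G'] (e : G ≃* G') (h : NormC G) :
    NormC G' := by
  obtain ⟨S⟩ : Nonempty (Sylow 2 G) := inferInstance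
  -- transport through the Sylow subgroup `e '' S`
  have h3 : IsPGroup 2 ((S : Subgroup G).map e.toMonoidHom) := S.isPGroup'.map _
  have h4 : ¬ 2 ∣ ((S : Subgroup G).map e.toMonoidHom).index := by
    rw [index_map_of_bijective e.bijective]
    exact S.not_dvd_index
  have : Fact (Nat.Prime 2) := ⟨Nat.prime_two⟩
  refine NormC.of_one (h3.toSylow h4) fun g hg ho s hs => ?_
  have hcoe : ((h3.toSylow h4 : Sylow 2 G') : Subgroup G') = (S : Subgroup G).map e.toMonoidHom := rfl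
  rw [hcoe] at hs hg
  obtain ⟨s, hs, rfl⟩ := hs
  obtain ⟨g, rfl⟩ := e.surjective g
  have hg' : g ∈ normalizer ((S : Subgroup G) : Set G) := by
    rw [mem_normalizer_iff]
    intro x
    have h1 := mem_normalizer_iff.mp hg (e x)
    have key : ∀ y : G, e y ∈ (S : Subgroup G).map e.toMonoidHom ↔ y ∈ (S : Subgroup G) := by
      intro y
      constructor
      · rintro ⟨z, hz, hze⟩
        rwa [← e.injective hze]
      · intro hy
        exact ⟨y, hy, rfl⟩
    have h5 : e x ∈ (S : Subgroup G).map e.toMonoidHom ↔ e g * e x * (e g)⁻¹ ∈ (S : Subgroup G).map e.toMonoidHom := h1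
    rw [← map_inv, ← map_mul, ← map_mul, key, key] at h5
    exact h5
  have ho' : Odd (orderOf g) := by
    rwa [e.orderOf_eq] at ho
  obtain ⟨t, ht, htc⟩ := h S g hg'
  -- `g` of odd order in `T C(T)` centralises `T` modulo inner: use powers
  have hcs : ∀ x ∈ (S : Subgroup G), g * x * g⁻¹ = t * x * t⁻¹ := by
    intro x hx
    have h1 := mem_centralizer_iff.mp htc x hx
    calc g * x * g⁻¹ = t * ((t⁻¹ * g) * x) * g⁻¹ := by group
      _ = t * (x * (t⁻¹ * g)) * g⁻¹ := by rw [h1]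
      _ = t * x * t⁻¹ := by group
  have hpow : ∀ (n : ℕ) (x : G), x ∈ (S : Subgroup G) → g ^ n * x * (g ^ n)⁻¹ = t ^ n * x * (t ^ n)⁻¹ := by
    intro n
    induction n with
    | zero => intro x _; simp
    | succ n ih =>
      intro x hx
      have h1 := hcs x hx
      have h2 : t * x * t⁻¹ ∈ (S : Subgroup G) := mul_mem (mul_mem ht hx) (inv_mem ht)
      calc g ^ (n + 1) * x * (g ^ (n + 1))⁻¹ = g ^ n * (g * x * g⁻¹) * (g ^ n)⁻¹ := by rw [pow_succ]; group
        _ = g ^ n * (t * x * t⁻¹) * (g ^ n)⁻¹ := by rw [h1]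
        _ = t ^ n * (t * x * t⁻¹) * (t ^ n)⁻¹ := ih _ h2
        _ = t ^ (n + 1) * x * (t ^ (n + 1))⁻¹ := by rw [pow_succ]; group
  -- the order of `t` is a power of two, the order of `g` is odd
  obtain ⟨k, hk⟩ := (IsPGroup.iff_orderOf.mp S.isPGroup') ⟨t, ht⟩
  have hk' : orderOf t = 2 ^ k := by rw [← hk]; exact (Subgroup.orderOf_mk t ht).symm
  have hco : Nat.Coprime (2 ^ k) (orderOf g) := Nat.Coprime.pow_left _ (Nat.coprime_two_left.mpr ho')
  obtain ⟨n, hn1, hn2⟩ := Nat.chineseRemainder hco 0 1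
  have e1 : t ^ n = 1 := by
    rw [← orderOf_dvd_iff_pow_eq_one, hk']
    exact (Nat.modEq_zero_iff_dvd).1 hn1
  have e2 : g ^ n = g := by
    have := (pow_eq_pow_iff_modEq (x := g)).mpr hn2
    rwa [pow_one] at this
  have h6 := hpow n s hs
  rw [e1, e2] at h6
  have h7 : g * s = s * g := by
    have : g * s * g⁻¹ = s := by simpa only [_root_.one_mul, _root_.inv_one, _root_.mul_one] using h6
    calc g * s = g * s * g⁻¹ * g := by group
      _ = s * g := by rw [this]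
  show e g * e s = e s * e g
  rw [← map_mul, h7, map_mul]

section

variable {π : Set ℕ} {G : Type u} [Group G] [Finite G] [IsSimpleGroup G]

omit [IsSimpleGroup G] in
theorem normC_g2 {F : Type v} [Field F] [Fintype F] (hF : Odd (Fintype.card F)) :
    NormC ↥(Cfsg.Lie.chevG2.group F) := by
  have hcard : Nat.card ↥(Lie.chevG2.group F) =
      Fintype.card F ^ 6 * (Fintype.card F ^ 2 - 1) * (Fintype.card F ^ 6 - 1) :=
    Cfsg.Agent.S1059.result (F := F) rfl
  have : Fact (Nat.Prime 2) := ⟨Nat.prime_two⟩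
  obtain ⟨Q⟩ : Nonempty (Sylow 2 ↥(Lie.chevG2.group F)) := inferInstance
  obtain ⟨k, hk, ⟨f⟩⟩ := Cfsg.Agent.ClassificationK.GTwoSylow.exists_equiv hF hcard Q
  refine NormC.of_aut Q fun φ n hn h => ?_
  have h1 : (MulAut.congr f.symm φ) ^ n = 1 := by
    rw [← map_pow, h, map_one]
  have h2 := Cfsg.Agent.H779.RowHex.aut_eq_one hk _ hn h1
  exact (MulAut.congr f.symm).injective (h2.trans (map_one _).symm)

omit [IsSimpleGroup G] in
theorem normC_3d4 {E : Type v} [Field E] [Fintype E] {q : ℕ} (hq : Odd q) (hE : Fintype.card E = q ^ 3) :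
    NormC ↥(Cfsg.Lie.twistedD4 E q) := by
  have : Fact (Nat.Prime 2) := ⟨Nat.prime_two⟩
  obtain ⟨Q⟩ : Nonempty (Sylow 2 ↥(Lie.twistedD4 E q)) := inferInstance
  obtain ⟨k, m, hk, -, -, ⟨f⟩⟩ := Cfsg.Agent.H285.D4Sylow.exists_equiv hq hE Q
  refine NormC.of_aut Q fun φ n hn h => ?_
  have h1 : (MulAut.congr f.symm φ) ^ n = 1 := by
    rw [← map_pow, h, map_one]
  have h2 := Cfsg.Agent.H779.RowHex.aut_eq_one hk _ hn h1
  exact (MulAut.congr f.symm).injective (h2.trans (map_one _).symm)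

/-- groups of Lie type of odd characteristic -/
theorem brow_odd (h2 : 2 ∈ π) {r : ℕ} (hr : r ≠ 2) (hsp : Special G → BRow π G) (h : IsLieTypeChar r G) : BRow π G := by
  rcases h with h | h | h | h | h | h | h | h | ⟨h, -⟩ | ⟨h, -⟩ | ⟨-, h⟩
  · obtain ⟨F, iF, iFin, iC, n, hn, hn4, ⟨e⟩⟩ := h
    have hodd := odd_card (F := F) (r := r) hr
    rcases Nat.lt_or_ge n 3 with h3 | h3
    · obtain rfl : n = 2 := by omega
      have hs : IsSimpleGroup (Matrix.ProjectiveSpecialLinearGroup (Fin (2 ^ 1)) F) :=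
        (MulEquiv.isSimpleGroup e.symm :
          IsSimpleGroup (Matrix.ProjectiveSpecialLinearGroup (Fin 2) F))
      have h1 : PO (Matrix.ProjectiveSpecialLinearGroup (Fin (2 ^ 1)) F) := fun H hH =>
        Cfsg.Agent.S2225.result 1 le_rfl hs H hH
      exact BRow.of_po h2 (PO.congr (e.symm : Matrix.ProjectiveSpecialLinearGroup (Fin 2) F ≃* G) h1)
    · have : Finite (Matrix.ProjectiveSpecialLinearGroup (Fin n) F) := Finite.of_equiv _ e.toEquiv
      obtain ⟨S⟩ : Nonempty (Sylow 2 (Matrix.ProjectiveSpecialLinearGroup (Fin n) F)) := inferInstance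
      exact BRow.of_normC (NormC.congr e.symm (NormC.of_aut S
        (Cfsg.Agent.H763.Psa.psl_main hn hodd (by omega) S).1))
  · by_cases hs : Special G
    · exact hsp hs
    · exact BRow.of_po h2 (row_psp hr hs h)
  · obtain ⟨F, iF, iFin, iC, n, q, hq, hn, -, ⟨e⟩⟩ := h
    have : Finite (Cfsg.PSU n F q) := Finite.of_equiv _ e.toEquiv
    obtain ⟨S⟩ : Nonempty (Sylow 2 (Cfsg.PSU n F q)) := inferInstance
    exact BRow.of_normC (NormC.congr e.symm (NormC.of_aut S
      (Cfsg.Agent.H763.Psa.psu_main hn hq (two_ne (F := F) (r := r) hr) S).1))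
  · exact BRow.of_po h2 (row_pOmegaOdd (Or.inr ⟨r, h⟩))
  · exact BRow.of_po h2 (row_pOmegaPlus hr h)
  · exact BRow.of_po h2 (row_pOmegaMinus hr h)
  · obtain ⟨F, iF, iFin, iC, h⟩ := h
    have hodd := odd_card (F := F) (r := r) hr
    rcases h with ⟨-, ⟨e⟩⟩ | ⟨⟨e⟩⟩ | ⟨⟨e⟩⟩ | ⟨⟨e⟩⟩ | ⟨⟨e⟩⟩
    · exact BRow.of_normC (NormC.congr e.symm (normC_g2 hodd))
    · obtain ⟨S, hS⟩ := Cfsg.Agent.H341.PronTor.cent_F4 (F := F) hodd
      exact BRow.of_normC (NormC.congr e.symm (NormC.of_one S hS))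
    · obtain ⟨S, hS⟩ := Cfsg.Agent.H621.Pron.cen_E6 (F := F) hodd
      exact BRow.of_normC (NormC.congr e.symm (NormC.of_one S hS))
    · obtain ⟨S, hS⟩ := Cfsg.Agent.H621.Pron.cen_E7 (F := F) hodd
      exact BRow.of_normC (NormC.congr e.symm (NormC.of_one S hS))
    · obtain ⟨S, hS⟩ := Cfsg.Agent.H341.PronTor.cent_E8 (F := F) hodd
      exact BRow.of_normC (NormC.congr e.symm (NormC.of_one S hS))
  · obtain ⟨K, iK, iFin, iC, q, -, h⟩ := h
    have hodd := odd_card (F := K) (r := r) hr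
    rcases h with ⟨hK, ⟨e⟩⟩ | ⟨hK, ⟨e⟩⟩
    · rw [hK] at hodd
      obtain ⟨S, hS⟩ := Cfsg.Agent.H621.Pron.cen_2E6 (K := K) (Nat.Odd.of_mul_left
        (by rw [pow_two] at hodd; exact hodd)) hK
      exact BRow.of_normC (NormC.congr e.symm (NormC.of_one S hS))
    · rw [hK] at hodd
      exact BRow.of_normC (NormC.congr e.symm (normC_3d4 (Nat.Odd.of_mul_left
        (by rw [pow_succ', pow_two] at hodd; exact hodd)) hK))
  · exact absurd h hr
  · exact absurd h hr
  · exact BRow.of_po h2 (Cfsg.Agent.H196.Ron.po_ree h)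

/-- **The `B`-row of all known simple groups.** -/
theorem brow_all (h2 : 2 ∈ π) (R : Main.Rest) (hna : ¬ IsMulCommutative G) (hK : IsKnownSimple' G)
    (hsp : Special G → BRow π G) : BRow π G := by
  rcases Cfsg.Agent.H408.PPMain.lie_or hK with h | h | ⟨r, h⟩ | h | h
  · exfalso
    have : Fact (Nat.card G).Prime := ⟨h⟩
    have hc : IsCyclic G := isCyclic_of_prime_card rfl
    exact hna ⟨⟨fun a b => by
      obtain ⟨g, hg⟩ := hc.exists_generator
      obtain ⟨m, rfl⟩ := hg a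
      obtain ⟨n, rfl⟩ := hg b
      exact (Commute.refl g).zpow_zpow m n⟩⟩
  · exact BRow.of_po h2 (Main.po_alt h)
  · by_cases hr : r = 2
    · subst hr
      exact BRow.of_po h2 (Cfsg.Agent.H829.Pron.row_char2 hna h)
    · exact brow_odd h2 hr hsp h
  · exact BRow.of_po h2 (RowsSelf.po_tits h)
  · exact BRow.of_po h2 (Main.spor R h)

end

end Cfsg.Agent.H165.RV
end

-- part: H165/RV/BRowFin
section
/-!
# TEAM RV: the `B`-row of all simple groups (helper165)
-/

set_option autoImplicit false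

namespace Cfsg.Agent.H165.RV

open Subgroup Cfsg Cfsg.Agent.H408.Pron Cfsg.Agent.H408.Pron.RowsOdd

universe u

variable {π : Set ℕ} {G : Type u} [Group G] [Finite G] [IsSimpleGroup G]

theorem brow_special (h2 : 2 ∈ π) (h : Special G) : BRow π G := by
  obtain ⟨F, iF, iFin, n, hF, h1, -, ⟨e⟩⟩ := h
  obtain ⟨p, hc⟩ := CharP.exists F
  have hp : p.Prime := CharP.char_is_prime F p
  have : Fact p.Prime := ⟨hp⟩
  have hp2 : p ≠ 2 := by
    rintro rfl
    have h3 := FiniteField.even_card_of_char_two (F := F) (ringChar.eq F 2)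
    omega
  have h2n : 2 ≤ n := by
    rcases Nat.lt_or_ge n 2 with h | h
    · interval_cases n
      · exfalso
        have hs : Subsingleton (PSp 0 F) := by
          have : Subsingleton (Matrix.symplecticGroup (Fin 0) F) := ⟨fun a b => Subtype.ext (by
            ext i; exact Sum.elim (fun x => x.elim0) (fun x => x.elim0) i)⟩
          exact Quotient.instSubsingletonQuotient _
        have := e.toEquiv.subsingleton
        exact not_subsingleton G this
      · exact absurd ⟨0, rfl⟩ h1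
    · exact h
  exact H408.Hall.SpRow.bRow_psp hp2 ⟨F, iF, iFin, hc, n, h2n, fun _ => by omega, ⟨e⟩⟩ h2

/-- **The `B`-row of all known simple groups.** -/
theorem brow_fin (h2 : 2 ∈ π) (R : Main.Rest) (hna : ¬ IsMulCommutative G) (hK : IsKnownSimple' G) : BRow π G :=
  brow_all h2 R hna hK (brow_special h2)

end Cfsg.Agent.H165.RV
end

-- part: H165/RV/Rest
section
/-!
# TEAM RV: all rows `NRow`, `BRow` from the exceptional `N`-rows (helper165)
-/

set_option autoImplicit false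

namespace Cfsg.Agent.H165.RV

open Subgroup Cfsg

universe u

/-- the exceptional `N`-rows other than `G₂`, `³D₄` -/
structure ExcRows (π : Set ℕ) : Prop where
  f4 : ∀ (S : Type u) [Group S] [Finite S] [IsSimpleGroup S] (F : Type) [Field F] [Fintype F] (p : ℕ) [CharP F p],
    p.Prime → p ≠ 2 → p ∉ π → Nonempty (S ≃* Lie.chevF4.group F) → NRow π S
  e6 : ∀ (S : Type u) [Group S] [Finite S] [IsSimpleGroup S] (F : Type) [Field F] [Fintype F] (p : ℕ) [CharP F p],
    p.Prime → p ≠ 2 → p ∉ π → Nonempty (S ≃* Lie.chevE6.group F) → NRow π S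
  e7 : ∀ (S : Type u) [Group S] [Finite S] [IsSimpleGroup S] (F : Type) [Field F] [Fintype F] (p : ℕ) [CharP F p],
    p.Prime → p ≠ 2 → p ∉ π → Nonempty (S ≃* Lie.chevE7.group F) → NRow π S
  e8 : ∀ (S : Type u) [Group S] [Finite S] [IsSimpleGroup S] (F : Type) [Field F] [Fintype F] (p : ℕ) [CharP F p],
    p.Prime → p ≠ 2 → p ∉ π → Nonempty (S ≃* Lie.chevE8.group F) → NRow π S
  te6 : ∀ (S : Type u) [Group S] [Finite S] [IsSimpleGroup S] (K : Type) [Field K] [Fintype K] (p : ℕ) [CharP K p]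
    (q : ℕ), p.Prime → p ≠ 2 → p ∉ π → IsPrimePow q → Fintype.card K = q ^ 2 → Nonempty (S ≃* Lie.twistedE6 K q) →
    NRow π S

theorem nRest {π : Set ℕ} (h2 : 2 ∈ π) (E : ExcRows.{u} π)
    (hT2 : ∀ (X : Type u) [Group X] [Finite X], Nonempty (X ≃* ↥(Lie.chevG2.group (ZMod 2))) → Hex.TwoPar X) :
    NRest.{u} π where
  oOdd := fun S _ _ _ p hp _ hpπ h => H485.RV.nRow_oOdd hp hpπ h2 h
  oPlus := fun S _ _ _ p hp _ hpπ h => H485.RV.nRow_oPlus hp hpπ h2 h
  oMinus := fun S _ _ _ p hp _ hpπ h => H485.RV.nRow_oMinus hp hpπ h2 h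
  exc := by
    rintro S _ _ _ p hp hp2 hpπ ⟨F, iF, iFin, iC, h⟩
    rcases h with ⟨-, ⟨e⟩⟩ | h | h | h | h
    · exact Hex.nRow_g2' hT2 hp hp2 e h2 hpπ
    · exact E.f4 S F p hp hp2 hpπ h
    · exact E.e6 S F p hp hp2 hpπ h
    · exact E.e7 S F p hp hp2 hpπ h
    · exact E.e8 S F p hp hp2 hpπ h
  tw := by
    rintro S _ _ _ p hp hp2 hpπ ⟨K, iF, iFin, iC, q, hq, h⟩
    rcases h with ⟨hK, h⟩ | ⟨hK, ⟨e⟩⟩
    · exact E.te6 S K p q hp hp2 hpπ hq hK h
    · exact Hex.nRow_d4' hT2 hq hK hp hp2 e h2 hpπ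

theorem oddConj : OddConj.{u} := fun π h2 _ _ _ H K hH hK => Cfsg.Agent.S4350.result π h2 H K hH hK

theorem allRows (E : ∀ π : Set ℕ, 2 ∈ π → ExcRows.{u} π)
    (hT2 : ∀ (X : Type u) [Group X] [Finite X], Nonempty (X ≃* ↥(Lie.chevG2.group (ZMod 2))) → Hex.TwoPar X) :
    AllRows.{u} := by
  intro π h2 S _ _ _ hna
  have hK : IsKnownSimple' S := Cfsg.Agent.S0000.result
  exact ⟨nrow_fin (nRest h2 (E π h2) hT2) h2 hna hK,
    brow_fin h2 ⟨fun _ _ _ _ => Cfsg.Agent.S0000.result⟩ hna hK⟩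

end Cfsg.Agent.H165.RV
end

-- part: H86/RV/D4F
section
/-!
# `³D₄(q)`, `q` odd: field automorphisms of odd order centralise a Sylow `2`-subgroup (helper86)

* `autOdd_3d4`.
-/

set_option autoImplicit false
set_option maxHeartbeats 400000

namespace Cfsg.Agent.H86.RV

open Cfsg Cfsg.Lie Subgroup
open Cfsg.Agent.H967.CopMat Cfsg.Agent.H967.CopTw Cfsg.Agent.H967.FaTw Cfsg.Agent.H967.CopD4
open Cfsg.Agent.H561.RV

universe u

theorem card_SL2 {F : Type u} [Field F] [Finite F] : Nat.card (Matrix.SpecialLinearGroup (Fin 2) F) =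
    Nat.card F * (Nat.card F ^ 2 - 1) := by
  have : Fintype F := Fintype.ofFinite F
  have h1 := Cfsg.Agent.S0242.result (F := F) rfl 2 (by norm_num)
  have hq : 2 ≤ Fintype.card F := Fintype.one_lt_card
  rw [Fin.prod_univ_two] at h1
  have h3 : Fintype.card F ^ 2 - Fintype.card F ^ 1 = (Fintype.card F - 1) * Fintype.card F := by
    rw [Nat.sub_mul, one_mul, pow_one, pow_two]
  simp only [Fin.val_zero, Fin.val_one, pow_zero] at h1
  rw [h3] at h1
  have h4 : (Fintype.card F - 1) * Nat.card (Matrix.SpecialLinearGroup (Fin 2) F) =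
      (Fintype.card F - 1) * (Fintype.card F * (Fintype.card F ^ 2 - 1)) := by rw [h1]; ring
  rw [Nat.card_eq_fintype_card (α := F)]
  exact Nat.eq_of_mul_eq_mul_left (by omega) h4

/-- the `2`-part of the order of `³D₄(r ^ n)`, `r`, `n` odd -/
theorem two_part {r n k : ℕ} (hr : Odd r) (hn : Odd n)
    (h : 2 ^ k ∣ (r ^ n) ^ 12 * ((r ^ n) ^ 2 - 1) * ((r ^ n) ^ 6 - 1) * ((r ^ n) ^ 8 + (r ^ n) ^ 4 + 1)) :
    2 ^ k ∣ (r * (r ^ 2 - 1)) * (r * (r ^ 2 - 1)) := by
  obtain ⟨c1, hc1, e1⟩ := odd_quot (x := r ^ 2) (n := n) hr.pow hn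
  obtain ⟨c2, hc2, e2⟩ := odd_quot (x := r ^ 2) (n := 3 * n) hr.pow ((by decide : Odd 3).mul hn)
  have e3 : (r ^ n) ^ 2 - 1 = (r ^ 2 - 1) * c1 := by rw [← e1, ← pow_mul, ← pow_mul, mul_comm n 2]
  have e4 : (r ^ n) ^ 6 - 1 = (r ^ 2 - 1) * c2 := by
    rw [← e2, ← pow_mul, ← pow_mul]
    congr 2
    ring
  rw [e3, e4] at h
  have hq : Odd (r ^ n) := hr.pow
  have h5 : Odd ((r ^ n) ^ 8 + (r ^ n) ^ 4 + 1) := (hq.pow.add_odd hq.pow).add_one
  have h6 : (r ^ n) ^ 12 * ((r ^ 2 - 1) * c1) * ((r ^ 2 - 1) * c2) * ((r ^ n) ^ 8 + (r ^ n) ^ 4 + 1) =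
      ((r ^ n) ^ 12 * c1 * c2 * ((r ^ n) ^ 8 + (r ^ n) ^ 4 + 1)) * ((r ^ 2 - 1) * (r ^ 2 - 1)) := by ring
  rw [h6] at h
  have h7 : Odd ((r ^ n) ^ 12 * c1 * c2 * ((r ^ n) ^ 8 + (r ^ n) ^ 4 + 1)) :=
    ((hq.pow.mul hc1).mul hc2).mul h5
  have h8 : Nat.Coprime (2 ^ k) ((r ^ n) ^ 12 * c1 * c2 * ((r ^ n) ^ 8 + (r ^ n) ^ 4 + 1)) :=
    Nat.Coprime.pow_left _ (Nat.coprime_two_left.2 h7)
  have h9 := h8.dvd_of_dvd_mul_left h
  have e : (r * (r ^ 2 - 1)) * (r * (r ^ 2 - 1)) = (r * r) * ((r ^ 2 - 1) * (r ^ 2 - 1)) := by ring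
  rw [e]
  exact h9.mul_left _

section

variable {F : Type} [Field F] [Fintype F] {q : ℕ}

/-- a Sylow `2`-subgroup of `³D₄(q)` over the fixed field of an automorphism `σ` of odd order, `|F_σ| = r`, `q = r ^ n` -/
theorem exists_sylow_fixed {r n : ℕ} (hq : IsPrimePow q) (hodd : Odd q) (hF : Fintype.card F = q ^ 3) (σ : F ≃+* F)
    (hr : Nat.card ↥(Fx σ) = r) (hn : Odd n) (hqr : q = r ^ n) :
    ∃ P₀ : Sylow 2 ↥(twistedD4 F q), ∀ x ∈ P₀, fieldAut (stab_d4 q) σ x = x := by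
  have hEf : Fintype ↥(Fx σ) := Fintype.ofFinite _
  have hrodd : Odd r := by
    rw [hqr] at hodd
    rcases Nat.even_or_odd r with h | h
    · exfalso
      have h1 : Even (r ^ n) := Nat.even_pow.2 ⟨h, hn.pos.ne'⟩
      exact (Nat.not_even_iff_odd.2 hodd) h1
    · exact h
  have hqE : ∀ x : ↥(Fx σ), x ^ q = x := by
    intro x
    rw [hqr, ← hr, Nat.card_eq_fintype_card]
    exact FiniteField.pow_card_pow n x
  have h2 : (2 : ↥(Fx σ)) ≠ 0 := by
    intro h
    have h3 : ringChar ↥(Fx σ) ∣ 2 := ringChar.dvd (by exact_mod_cast h)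
    have h4 : ringChar ↥(Fx σ) = 2 := by
      rcases (Nat.dvd_prime Nat.prime_two).1 h3 with h5 | h5
      · exact absurd h5 CharP.ringChar_ne_one
      · exact h5
    have h5 : CharP ↥(Fx σ) 2 := ringChar.of_eq h4
    obtain ⟨a, ha, hb⟩ := FiniteField.card ↥(Fx σ) 2
    rw [Nat.card_eq_fintype_card, hb] at hr
    rw [← hr] at hrodd
    have h6 : Even (2 ^ (a : ℕ)) := Nat.even_pow.2 ⟨by decide, a.pos.ne'⟩
    exact (Nat.not_even_iff_odd.2 hrodd) h6
  obtain ⟨H₀, hH₀, hd⟩ := exists_sub (E := ↥(Fx σ)) h2 hqE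
  set H₁ := H₀.map (Matrix.GeneralLinearGroup.map (Fx σ).subtype) with hH₁
  have hle : H₁ ≤ twistedD4 F q := (Subgroup.map_mono hH₀).trans (words_d4 (Fx σ).subtype q)
  have hc1 : Nat.card H₁ = Nat.card H₀ := Subgroup.card_map_of_injective (map_injective (Fx σ).subtype)
  have hc2 : Nat.card (H₁.subgroupOf (twistedD4 F q)) = Nat.card H₀ := by
    rw [← hc1]
    exact Nat.card_congr (subgroupOfEquivOfLe hle).toEquiv
  obtain ⟨P₀, hP₀⟩ := exists_sylow_le (H₁.subgroupOf (twistedD4 F q)) (by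
    intro k hk
    rw [hc2]
    rw [Cfsg.Agent.S1067.result hq hF, hqr] at hk
    have h3 := two_part hrodd hn hk
    refine h3.trans ?_
    have h4 : Nat.card (Cfsg.Agent.Omega.Lie.CenSL.SL2 ↥(Fx σ)) = r * (r ^ 2 - 1) := by
      rw [← hr]
      exact card_SL2
    rw [← h4]
    exact hd)
  refine ⟨P₀, fun x hx => ?_⟩
  obtain ⟨g, -, hg⟩ := mem_subgroupOf.1 (hP₀ hx)
  apply Subtype.ext
  rw [coe_fieldAut, ← hg]
  exact map_fixed σ g

/-- **`³D₄(q)`, `q` odd: automorphisms of odd order centralise a Sylow `2`-subgroup, modulo inner automorphisms** -/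
theorem autOdd_3d4 {F : Type} [Field F] [Fintype F] {q : ℕ} (hq : IsPrimePow q) (hodd : Odd q)
    (hF : Fintype.card F = q ^ 3) : Cfsg.Agent.H561.RV.AutOdd ↥(Cfsg.Lie.twistedD4 F q) := by
  obtain ⟨p, f, hp, hc, hf, rfl, hK'⟩ := Cfsg.Agent.H565.CopTw.exists_params hq hF (by norm_num)
  have : Fact p.Prime := ⟨hp⟩
  obtain ⟨τ, hτ⟩ := exists_ringAut p (3 * f) hK'
  obtain ⟨k, m, hm, hkm⟩ := Nat.exists_eq_two_pow_mul_odd (n := 3 * f) (by omega)
  have h3m : 3 ∣ m := by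
    have h1 : 3 ∣ 2 ^ k * m := ⟨f, hkm.symm⟩
    exact (Nat.Coprime.pow_right k (by norm_num : Nat.Coprime 3 2)).dvd_of_dvd_mul_left h1
  obtain ⟨n, rfl⟩ := h3m
  have hn : Odd n := (Nat.odd_mul.1 hm).2
  have hfn : f = 2 ^ k * n := by
    have : 3 * f = 3 * (2 ^ k * n) := by rw [hkm]; ring
    omega
  set σ := τ ^ (2 ^ k) with hσ
  have hoσ : orderOf σ = 3 * n := by
    rw [hσ, orderOf_pow_of_dvd (by positivity) (by rw [hτ, hkm]; exact dvd_mul_right _ _), hτ, hkm]
    exact Nat.mul_div_cancel_left _ (by positivity)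
  have hr : Nat.card ↥(Fx σ) = p ^ (2 ^ k) := by
    have h1 := card_Fx σ
    rw [Nat.card_eq_fintype_card, hK', hoσ, hkm, pow_mul] at h1
    exact (Nat.pow_left_injective (n := 3 * n) (by have := hn.pos; omega) h1).symm
  obtain ⟨P₀, hP₀⟩ := exists_sylow_fixed hq hodd hF σ hr hn (by rw [hfn, pow_mul])
  refine autOdd_of_index (H254.isSolvable_out_of_sch (Cfsg.Agent.Schreier.TwDFour.sch hq hF)) P₀
    (zpowers (fieldAut (stab_d4 (p ^ f)) σ)) ?_ ?_
  · have h1 : zpowers (fieldAut (stab_d4 (p ^ f)) σ) ≤ fixingSubgroup (MulAut ↥(twistedD4 F (p ^ f)))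
        ((P₀ : Subgroup ↥(twistedD4 F (p ^ f))) : Set ↥(twistedD4 F (p ^ f))) := by
      rw [zpowers_le, mem_fixingSubgroup_iff]
      exact fun x hx => hP₀ x hx
    intro φ hφ x hx
    exact (mem_fixingSubgroup_iff _).1 (h1 hφ) x hx
  · intro r hr' hd
    set mk := QuotientGroup.mk' (Inn ↥(twistedD4 F (p ^ f))) with hmk
    have hmks : Function.Surjective mk := QuotientGroup.mk'_surjective _
    have h1 : ((zpowers (fieldAut (stab_d4 (p ^ f)) σ)).map mk).index =
        (zpowers (fieldAut (stab_d4 (p ^ f)) σ) ⊔ Inn ↥(twistedD4 F (p ^ f))).index := by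
      rw [index_map, hmk, QuotientGroup.ker_mk', MonoidHom.range_eq_top.2 (QuotientGroup.mk'_surjective _),
        index_top, mul_one]
    have h2 : orderOf (mk (fieldAut (stab_d4 (p ^ f)) σ)) = 3 * n := by
      apply Nat.dvd_antisymm
      · rw [← hoσ]
        exact (orderOf_map_dvd mk _).trans (orderOf_map_dvd _ _)
      · rw [← hoσ]
        apply orderOf_dvd_of_pow_eq_one
        by_contra h3
        apply not_inner_d4 hq hF _ h3
        rw [map_pow]
        have h4 := pow_orderOf_eq_one (mk (fieldAut (stab_d4 (p ^ f)) σ))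
        rw [← map_pow] at h4
        exact (QuotientGroup.eq_one_iff _).1 h4
    have h3 := Subgroup.card_mul_index ((zpowers (fieldAut (stab_d4 (p ^ f)) σ)).map mk)
    rw [MonoidHom.map_zpowers, Nat.card_zpowers, h2] at h3
    have h4 : Nat.card (Out ↥(twistedD4 F (p ^ f))) = 3 * f := Cfsg.Agent.S2129.result p f hK' hf
    have h5 : 3 * n * (zpowers (mk (fieldAut (stab_d4 (p ^ f)) σ))).index = 3 * n * 2 ^ k := by
      rw [h3]
      refine h4.trans ?_
      rw [hkm]; ring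
    have h6 := Nat.eq_of_mul_eq_mul_left (by have := hn.pos; omega) h5
    rw [← MonoidHom.map_zpowers, h1] at h6
    rw [h6] at hd
    exact (Nat.prime_dvd_prime_iff_eq hr' Nat.prime_two).1 (hr'.dvd_of_dvd_pow hd)

end

end Cfsg.Agent.H86.RV
end
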